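import Cfsg.Agent.Lib.Pres.PhanFour
import Cfsg.Agent.Lib.Unitary.Simple

/-! # Weak Phan systems over small fields: recognising standard triples -/

set_option autoImplicit false

namespace Cfsg.Lib.Pres

open Module Cfsg.Lib.Unitary Cfsg.Lib.Root Cfsg.Lib.Linear Subgroup
open scoped MatrixGroups

theorem exists_lift_SL2 {S G K : Type*} [Group S] [Finite S] [Group G] [Field K] [Finite K] (p : ℕ)
    [hp : Fact p.Prime] [CharP K p] (hS : CenterPFree p S) {g : S →* G} (hg : g.ker ≤ center S)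
    (φ : SL(2, K) →* G) (hφ : φ.range ≤ g.range) : ∃ ψ : SL(2, K) →* S, ∀ s, g (ψ s) = φ s := by
  have e1 : ∀ {x y : S}, g x = g y → (x : S ⧸ center S) = y := fun k =>
    QuotientGroup.eq.2 (hg (by simp [MonoidHom.mem_ker, k]))
  have e2 : ∀ s : SL(2, K), s ^ p = 1 → ∃ x, x ^ p = 1 ∧ g x = φ s := fun s hs => by
    obtain ⟨x, hx⟩ := hφ ⟨s, rfl⟩
    have h1 : x ^ p ∈ g.ker := by rw [MonoidHom.mem_ker, map_pow, hx, ← map_pow, hs, map_one]
    have h2 : (orderOf (x ^ p)).Coprime p := by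
      refine (hp.out.coprime_iff_not_dvd.2 fun ⟨k, hk⟩ => ?_).symm
      have := orderOf_dvd_of_pow_eq_one (hS _ (pow_mem (hg h1) k) (by
        rw [← pow_mul, mul_comm, ← hk, pow_orderOf_eq_one]))
      have h3 := orderOf_pos (x ^ p)
      have h4 := Nat.le_of_dvd (Nat.pos_of_ne_zero (by rintro rfl; omega)) this
      have := hp.out.two_le
      rw [hk] at h3 h4
      nlinarith
    obtain ⟨m, hm⟩ := exists_pow_eq_self_of_coprime h2.symm
    refine ⟨x * ((x ^ p) ^ m)⁻¹, ?_, by rw [map_mul, map_inv, pow_mem h1 m, inv_one, mul_one, hx]⟩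
    rw [(((Commute.refl x).pow_right p).pow_right m).inv_right.mul_pow, inv_pow, ← pow_mul _ m,
      mul_comm, pow_mul, hm, mul_inv_cancel]
  choose X X1 X2 using fun t : K => e2 _ (xU_pow (CharP.cast_eq_zero K p) t)
  choose Y Y1 Y2 using fun t : K => e2 _ (xL_pow (CharP.cast_eq_zero K p) t)
  have e3 : ∀ {x y z : S}, x ^ p = 1 → y ^ p = 1 → z ^ p = 1 → g z = g x * g y → g z = g y * g x →
      z = x * y := fun {x y z} hx hy hz a b => hS.eq_of_mk_eq hz (by
    rw [(hS.commute_of_mk (y := y) hx (e1 (x := x * y) (y := y * x)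
      (by simp only [map_mul, ← a, ← b]))).mul_pow, hx, hy, one_mul]) (e1 (by rw [map_mul, a]))
  obtain ⟨ψ, h1, h2⟩ := St2.exists_hom_finite (x := X) (y := Y)
    ⟨fun s t => e3 (X1 _) (X1 _) (X1 _) (by simp [X2, xU_add])
      (by simp only [X2, ← map_mul, ← xU_add, add_comm]),
    fun s t => e3 (Y1 _) (Y1 _) (Y1 _) (by simp [Y2, xL_add])
      (by simp only [Y2, ← map_mul, ← xL_add, add_comm]),
    fun t ht u => eq_mul_of_mul_inv_eq (hS.eq_of_mk_eq (by rw [conj_pow, X1]; simp) (Y1 _) (e1 (by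
      simp only [map_mul, map_inv, X2, Y2]
      simp only [← map_mul, ← map_inv, st2_SL2.rel t ht u, mul_inv_cancel_right])))⟩
  exact ⟨ψ, fun s => (SL2_eq_top' (M := (g.comp ψ).eqLocus φ) (fun t => (congrArg g (h1 t)).trans (X2 t))
    fun t => (congrArg g (h2 t)).trans (Y2 t)).ge (mem_top s)⟩

variable {F V : Type*} [Field F] [AddCommGroup V] [Module F V] {σ : F →+* F}
  {B : V →ₛₗ[σ] V →ₗ[F] F} {q : ℕ} (h : IsHerm σ B) (hσ : IsBar q σ) [FiniteDimensional F V]
include h hσ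

theorem exists_torus {ι : Type*} [Fintype ι] [DecidableEq ι] {e : ι → V} (he : IsON B e)
    (hd : finrank F V = Fintype.card ι) {i j : ι} (hij : i ≠ j) : ∃ t ∈ Blk B e {i, j}, ∃ b : F,
      b * σ b = 1 ∧ σ b ≠ b ∧ e i ∈ Eig t b ∧ e j ∈ Eig t (σ b) := by
  obtain ⟨b, b1, b2⟩ := exists_norm_one_ne_bar hσ
  obtain ⟨s, s0, s1⟩ := exists_su2 hσ (a := b) (b := 0) (by simpa)
  obtain ⟨f, -, f1, f2⟩ := exists_Blk_iso hσ h he hd (τ := ![i, j]) fun a b => by
    fin_cases a <;> fin_cases b <;> simp [hij, hij.symm]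
  refine ⟨f s, by simpa [Set.pair_comm] using f1.le ⟨s, rfl⟩, b, b1, b2, ?_, ?_⟩
  · simpa [s0, s1, su2_10 hσ] using! f2 s 0
  · simpa [s0, s1, su2_11 hσ] using! f2 s 1

theorem eig_of_commute {ι : Type*} [Fintype ι] [DecidableEq ι] {e : ι → V} (he : IsON B e)
    (hd : finrank F V = Fintype.card ι) {i j : ι} (hij : i ≠ j) {x : SUG B}
    (hx : ∀ t ∈ Blk B e {i, j}, Commute t x) : ∃ c : F, x • e i = c • e i := by
  obtain ⟨t, t1, b, b1, b2, b3, b4⟩ := exists_torus h hσ he hd hij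
  refine ⟨B (e i) (x • e i), (eq_sum_on h he hd _).trans (Finset.sum_eq_single i
    (fun k _ hk => ?_) (by simp))⟩
  have := Eig_commute (hx t t1) b3
  by_cases e1 : k = j
  · rw [e1, Eig_perp (fun k => b2 ?_) b4 this, zero_smul]
    rw [hσ.invol] at k
    linear_combination b * b1 - σ b * k
  · rw [Eig_perp (c := 1) (fun k => b2 ?_) (by simpa [mem_Eig] using t1 k (by simp [hk, e1])) this,
      zero_smul]
    simp [show b = 1 by simpa using k]

theorem perp_of_fix {ι : Type*} [Fintype ι] [DecidableEq ι] {e : ι → V} (he : IsON B e)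
    (hd : finrank F V = Fintype.card ι) {i j : ι} (hij : i ≠ j) {v : V}
    (hv : ∀ t ∈ Blk B e {i, j}, t • v = v) : B (e i) v = 0 := by
  obtain ⟨t, t1, b, b1, b2, b3, -⟩ := exists_torus h hσ he hd hij
  refine Eig_perp (d := 1) (fun k => b2 ?_) b3 (by simpa [mem_Eig] using hv t t1)
  rw [mul_one] at k
  rw [← hσ.invol b, k, map_one, map_one]

variable {K : Type*} [Field K] [Finite K] (hK : Nat.card K = q)
include hK

theorem exists_frame_four (hd : finrank F V = 4) {φ ψ χ : SL(2, K) →* SUG B}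
    (hφ : Function.Injective φ) (hψ : Function.Injective ψ) (hχ : Function.Injective χ)
    {v : V} (hv : B v v = 1) (v1 : ∀ s, φ s • v = v) (v2 : ∀ s, ψ s • v = v)
    (hne : φ.range ≠ ψ.range) {s t : SL(2, K)} (s1 : s ≠ 1) (s2 : s ^ (q + 1) = 1) (t1 : t ≠ 1)
    (t2 : t ^ (q + 1) = 1) (hc : Commute (φ s) (ψ t)) (hc' : ∀ s t, Commute (φ s) (χ t)) :
    ∃ e : Fin 4 → V, IsON B e ∧ e 3 = v ∧ φ.range = Blk B e (Iv 4 0 2) ∧
      ψ.range = Blk B e (Iv 4 1 3) ∧ χ.range = Blk B e (Iv 4 2 4) := by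
  have v0 : v ≠ 0 := by rintro rfl; simp at hv
  have hP := h.disjoint_perp_perp (IsHerm.disjoint_perp_singleton (B := B) (u := v) (by simp [hv]))
  obtain ⟨ε, e1, e2, -, e4⟩ := exists_emb h hP
  have key : ∀ φ : SL(2, K) →* SUG B, (∀ s, φ s • v = v) → ∃ φ' : SL(2, K) →* _, ε.comp φ' = φ :=
    fun φ H => ⟨(MonoidHom.ofInjective e1).symm.toMonoidHom.comp (φ.codRestrict _ fun s =>
      e4 _ fun w hw => by
        rw [h.perp_perp] at hw
        obtain ⟨c, rfl⟩ := Submodule.mem_span_singleton.1 hw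
        rw [sug_smul_smul, H]), MonoidHom.ext fun s => MonoidHom.apply_ofInjective_symm e1 _⟩
  obtain ⟨φ', rfl⟩ := key φ v1
  obtain ⟨ψ', rfl⟩ := key ψ v2
  obtain ⟨e, he, r1, r2⟩ := exists_frame_three (h.restrict hP) hσ hK
    (by have := h.finrank_perp_singleton v0; omega) (.of_comp hφ) (.of_comp hψ)
    (fun k => hne (by rw [MonoidHom.range_comp, k, MonoidHom.range_comp])) s1 s2 t1 t2
    (e1 (by simpa only [map_mul] using! hc.eq))
  have h1 : ∀ i, B v (e i) = 0 := fun i => mem_perp_singleton.1 (e i).2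
  have he' : IsON B ![(e 0 : V), e 1, e 2, v] := fun i j => by
    have : ∀ i j, B (e i) (e j) = if i = j then 1 else 0 := he
    fin_cases i <;> fin_cases j <;> simp [this, hv, h1, h.eq_zero_comm.1 (h1 _)]
  have r3 := range_eq_Blk h hσ hK he' (by simpa) (ncard_Iv (a := 0) (b := 2) (by omega)) hφ
    fun s i hi => by
      fin_cases i <;> simp at hi
      exacts [(e2 _ _).trans (congrArg _ (r1.le ⟨s, rfl⟩ 2 (by simp))), v1 s]
  refine ⟨_, he', rfl, r3, range_eq_Blk h hσ hK he' (by simpa) (ncard_Iv (by omega)) hψ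
    fun s i hi => ?_, range_eq_Blk h hσ hK he' (by simpa) (ncard_Iv le_rfl) hχ fun s i hi => ?_⟩
  · fin_cases i <;> simp at hi
    exacts [(e2 _ _).trans (congrArg _ (r2.le ⟨s, rfl⟩ 0 (by simp))), v2 s]
  · have : ∀ j : Fin 4, i ≠ j → j.val < 2 → χ s • _ = _ := fun j hij hj =>
      fix_of_line hσ hK χ (fun s => eig_of_commute h hσ he' (by simpa) hij fun t ht => by
        obtain ⟨u, rfl⟩ := r3.ge (Blk_mono (by rintro _ (rfl | rfl) <;> simp at hi ⊢ <;> omega) ht)
        exact hc' u s) s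
    by_cases k : i = 0
    exacts [this 1 (by simp [k]) (by simp), this 0 k (by simp)]

omit h in
theorem fix_neg_Eig {φ ψ : SL(2, K) →* SUG B} (h2 : (2 : F) ≠ 0) (hc : ∀ s t, Commute (φ s) (ψ t))
    (hd : finrank F (Eig (φ (-1)) (-1 : F)) = 2) (s : SL(2, K)) {v : V}
    (hv : v ∈ Eig (φ (-1)) (-1 : F)) : ψ s • v = v := by
  have hq := cast_q_of_card hσ hK
  have hw : (xU 1 * xL (-1) * xU 1) * (xU 1 * xL (-1) * xU 1) = (-1 : SL(2, K)) := by
    ext i j
    fin_cases i <;> fin_cases j <;> simp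
  have key : ∀ a : SL(2, K), a ^ q = 1 → Eig (φ (-1)) (-1 : F) ⊓ Eig (φ a) 1 ≠ ⊥ := fun a ha k => by
    obtain ⟨w, w1, w0⟩ := (Submodule.ne_bot_iff _).1 (Submodule.finrank_eq_zero.not.1
      (hd.trans_ne two_ne_zero))
    have k1 : ∀ n : ℕ, ∀ w ∈ Eig (φ (-1)) (-1 : F),
        (((φ a).1.toLinearMap - 1) ^ n : Module.End F V) w = 0 → w = 0 := fun n => by
      induction n with
      | zero => simp
      | succ n ih => exact fun w w1 e => k.le ⟨w1, (sub_eq_zero.1 (ih (φ a • w - w)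
        (sub_mem (Eig_commute (Commute.map (by simp) φ) w1) w1) e)).trans (one_smul _ _).symm⟩
    haveI := hσ.finite
    haveI := Fintype.ofFinite F
    obtain ⟨p, f, hp, _, -, rfl⟩ := exists_prime_pow_of_card (card_of_isBar hσ)
    haveI := Fact.mk hp
    have := congrArg (Polynomial.aeval (φ a).1.toLinearMap)
      (sub_pow_char_pow (Polynomial.X : Polynomial F) 1 (p := p) f)
    simp only [map_pow, map_sub, Polynomial.aeval_X, map_one, one_pow] at this
    refine w0 (k1 (p ^ f) w w1 ?_)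
    rw [this, LinearMap.sub_apply, Module.End.pow_apply, LinearEquiv.coe_coe, ← LinearEquiv.coe_pow,
      ← Subgroup.coe_pow, ← map_pow, ha, map_one]
    simp
  have k0 : Disjoint (Eig (φ (-1)) (-1 : F) ⊓ Eig (φ (xU 1)) 1)
      (Eig (φ (-1)) (-1 : F) ⊓ Eig (φ (xL (-1))) 1) := Submodule.disjoint_def.2 fun w a b => by
    have c := a.1
    rw [SetLike.mem_coe, mem_Eig, ← hw] at c
    simp only [map_mul, mul_smul, show φ (xU 1) • w = _ from a.2, show φ (xL (-1)) • w = _ from b.2,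
      one_smul, neg_one_smul, eq_neg_iff_add_eq_zero, ← two_smul F] at c
    exact (smul_eq_zero_iff_right h2).1 c
  have k2 := Submodule.finrank_sup_add_finrank_inf_eq (Eig (φ (-1)) (-1 : F) ⊓ Eig (φ (xU 1)) 1)
    (Eig (φ (-1)) (-1 : F) ⊓ Eig (φ (xL (-1))) 1)
  have k3 := Submodule.finrank_eq_zero.not.2 (key _ (xU_pow hq 1))
  have k4 := Submodule.finrank_eq_zero.not.2 (key _ (xL_pow hq (-1)))
  have k7 := sup_le (inf_le_left (b := Eig (φ (xU 1)) 1))
    (inf_le_left (a := Eig (φ (-1)) (-1 : F)) (b := Eig (φ (xL (-1))) 1))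
  have k5 := Submodule.finrank_mono k7
  rw [k0.eq_bot, finrank_bot] at k2
  have k6 : ∀ a, finrank F ↥(Eig (φ (-1)) (-1 : F) ⊓ Eig (φ a) 1) ≤ 1 →
      ∀ w ∈ Eig (φ (-1)) (-1 : F) ⊓ Eig (φ a) 1, ψ s • w = w := fun a ha w hw => by
    by_cases w0 : w = 0
    · simp [w0]
    exact fix_of_line hσ hK ψ (fun s => exists_eq_smul ha hw w0
      ⟨Eig_commute (hc _ s) hw.1, Eig_commute (hc _ s) hw.2⟩) s
  obtain ⟨x, hx, y, hy, rfl⟩ := Submodule.mem_sup.1 ((Submodule.eq_of_le_of_finrank_le k7 (by omega)).ge hv)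
  rw [smul_add, k6 _ (by omega) x hx, k6 _ (by omega) y hy]

omit hK in
theorem finrank_Eig_four (hd : finrank F V = 4) (h2 : (2 : F) ≠ 0) {z : SUG B} (hz : z * z = 1)
    (hc : z ∉ center (SUG B)) : finrank F (Eig z (1 : F)) = 2 ∧ finrank F (Eig z (-1 : F)) = 2 := by
  haveI := hσ.finite
  have h3 := Submodule.finrank_add_eq_of_isCompl (isCompl_Eig hz h2)
  have h4 : (2 : ℕ).Coprime q := by simpa [two_eq_zero_iff, hσ.card, Nat.even_pow] using h2
  have h5 : finrank F (Eig z (1 : F)) ≤ 2 := not_lt.1 fun e => hc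
    (eq_one_of_rank h hσ (k := 2) (by rw [sq, hz]) h4 (by omega) ▸ one_mem _)
  let m : SUG B := ⟨scal V (-1), mem_SUG.2 ⟨fun u v => by simp, by rw [det_scal, hd]; norm_num⟩⟩
  have hm : ∀ v : V, m • v = -v := fun v => by simp [m, sug_smul]
  have h6 : finrank F (Eig z (-1 : F)) ≤ 2 := not_lt.1 fun e => hc ((h.mem_center_SUG
    (by omega)).2 ⟨-1, fun v => by
      have : m * z = 1 := eq_one_of_rank h hσ (k := 2) (Subtype.ext (LinearEquiv.ext fun v => by
        change (m * z) ^ 2 • v = v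
        rw [sq, mul_smul, mul_smul, mul_smul, hm, hm, smul_neg, neg_neg, ← mul_smul, hz, one_smul]))
        h4 (by
          rw [show Eig (m * z) (1 : F) = Eig z (-1) by
            ext; simp [mem_Eig, mul_smul, hm, neg_eq_iff_eq_neg]]
          omega)
      simpa [mul_smul, hm, neg_eq_iff_eq_neg] using! congrArg (· • v) this⟩)
  omega

theorem exists_fix_odd (hd : finrank F V = 4) (h2 : (2 : F) ≠ 0) {φ χ : SL(2, K) →* SUG B}
    (hc : ∀ s t, Commute (φ s) (χ t)) (c0 : φ (-1) ∉ center (SUG B)) (c2 : χ (-1) ∉ center (SUG B))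
    {x : SUG B} (c1 : Commute (φ (-1)) (x * φ (-1) * x⁻¹))
    (c3 : φ (-1) * (x * φ (-1) * x⁻¹) ∉ center (SUG B)) :
    ∃ v, B v v = 1 ∧ (∀ s, φ s • v = v) ∧ ∀ s, (x * φ s * x⁻¹) • v = v := by
  haveI := hσ.finite
  have hz : ∀ φ : SL(2, K) →* SUG B, φ (-1) * φ (-1) = 1 := fun φ => by simp [← map_mul]
  have n1 : σ 1 * (-1 : F) ≠ 1 := fun k => h2 (by simp at k; linear_combination -k)
  have n2 : σ (-1) * (1 : F) ≠ 1 := by simpa using n1
  obtain ⟨d0, d1⟩ := finrank_Eig_four h hσ hd h2 (hz φ) c0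
  obtain ⟨d2, d3⟩ := finrank_Eig_four h hσ hd h2 (hz χ) c2
  have f0 : ∀ s, ∀ v ∈ Eig (φ (-1)) (1 : F), φ s • v = v := fun s v hv => by
    refine fix_neg_Eig hσ hK h2 (fun s t => (hc t s).symm) d3 s ?_
    have e1 : Eig (φ (-1)) (-1 : F) = Eig (χ (-1)) 1 := Submodule.eq_of_le_of_finrank_le
      (fun w hw => (fix_neg_Eig hσ hK h2 hc d1 _ hw).trans (one_smul _ _).symm) (by omega)
    have e2 : Eig (χ (-1)) (-1 : F) = perp B (Eig (χ (-1)) 1) := Submodule.eq_of_le_of_finrank_le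
      (fun w hw u hu => Eig_perp n1 hu hw) (by rw [h.finrank_perp]; omega)
    rw [e2, ← e1]
    exact fun u hu => Eig_perp n2 hu hv
  generalize hy : x * φ (-1) * x⁻¹ = y at c1 c3
  have y2 : y * y = 1 := by rw [← hy, conj_mul, hz]; simp
  obtain ⟨d4, d5⟩ := finrank_Eig_four h hσ hd h2 y2 fun k => c0 (by
    simpa [← hy, mul_assoc] using (Normal.conj_mem inferInstance _ k x⁻¹))
  have pr : ∀ {y z : SUG B}, y * y = 1 → Commute z y → ∀ v ∈ Eig z (1 : F),
      v + y • v ∈ Eig z (1 : F) ⊓ Eig y 1 := fun hy hc v hv =>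
    ⟨add_mem hv (Eig_commute hc hv), by simp [mem_Eig, smul_smul, hy, add_comm]⟩
  obtain ⟨a, a1, a0⟩ := (Submodule.ne_bot_iff (Eig (φ (-1)) (1 : F) ⊓ Eig y 1)).1 fun k => c3
    ((h.mem_center_SUG (by omega)).2 ⟨-1, fun v => by
      obtain ⟨a, ha, b, hb, rfl⟩ := Submodule.mem_sup.1
        ((isCompl_Eig (hz φ) h2).sup_eq_top.ge (Submodule.mem_top (x := v)))
      have e1 : y • a = -a := eq_neg_of_add_eq_zero_right (k.le (pr y2 c1 a ha))
      have e2 : y • b = b := ((Submodule.eq_of_le_of_finrank_le (fun w hw => by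
        simpa [mem_Eig] using eq_neg_of_add_eq_zero_right (((inf_comm _ _).trans k).le
          (pr (hz φ) c1.symm w hw))) (d1.trans d4.symm).le).ge hb).trans (one_smul _ _)
      change (φ (-1) * y) • (a + b) = _
      rw [mul_smul, smul_add, e1, e2, smul_add, smul_neg, ha, hb]
      simp⟩)
  obtain ⟨w, hw⟩ := h.exists_ne_zero a0
  have w1 : w + φ (-1) • w ∈ Eig (φ (-1)) (1 : F) := by simp [mem_Eig, smul_smul, hz, add_comm]
  obtain ⟨u, u1, u2⟩ := h.exists_nonisotropic a1 (pr y2 c1 _ w1) (by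
    have e1 : ∀ v, B a (φ (-1) • v) = B a v := fun v => by
      rw [← sug_map (φ (-1)) a v, show φ (-1) • a = _ from a1.1, one_smul]
    have e2 : ∀ v, B a (y • v) = B a v := fun v => by
      rw [← sug_map y a v, show y • a = _ from a1.2, one_smul]
    simp only [map_add, e1, e2, ← two_mul]
    simp [h2, hw])
  obtain ⟨c, -, hc⟩ := exists_unit_smul h u2
  refine ⟨_, hc, fun s => f0 s _ (Submodule.smul_mem _ _ u1.1), fun s => ?_⟩
  rw [mul_smul, mul_smul, f0, smul_inv_smul]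
  have : y • c • u = _ := Submodule.smul_mem _ c u1.2
  rw [← hy, mul_smul, mul_smul, smul_eq_iff_eq_inv_smul, one_smul] at this
  simpa [mem_Eig] using this

end Cfsg.Lib.Pres
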