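import Cfsg.Agent.Lib.Pres.PhanGeo4
import Cfsg.Agent.Lib.PSL2.SL

/-! # Weak Phan systems over the fields with four and nine elements -/

set_option autoImplicit false

namespace Cfsg.Lib.Pres

open Module Cfsg.Lib.Unitary Cfsg.Lib.Root Cfsg.Lib.Linear Subgroup
open scoped MatrixGroups

variable {F V : Type*} [Field F] [AddCommGroup V] [Module F V] {σ : F →+* F}
  {B : V →ₛₗ[σ] V →ₗ[F] F} {q : ℕ}

theorem exists_shift (hσ : IsBar q σ) :
    ∃ c : SU 3 F q, ∀ y, c * em hσ 2 3 0 y * c⁻¹ = em hσ 2 3 1 y := by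
  refine ⟨⟨⟨!![0, 0, 1; 1, 0, 0; 0, 1, 0], by simp [Matrix.det_fin_three]⟩, hσ.mem_SU_iff.2 ?_⟩,
    fun y => mul_inv_eq_of_eq_mul (Subtype.ext (Subtype.ext
      ((su_mul_val _ _).trans (Eq.trans ?_ (su_mul_val _ _).symm))))⟩
  · ext i j
    fin_cases i <;> fin_cases j <;> simp [Matrix.mul_apply, Fin.sum_univ_three]
  · simp [em0_val, em1_val]

theorem centerPFree_SUG (h : IsHerm σ B) [Finite F] [FiniteDimensional F V] (hn : 2 ≤ finrank F V)
    (p : ℕ) [Fact p.Prime] [CharP F p] : CenterPFree p (SUG B) := fun z hz e => by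
  obtain ⟨a, ha⟩ := (h.mem_center_SUG hn).1 hz
  refine Subtype.ext (LinearEquiv.ext fun v => ?_)
  by_cases h0 : v = 0
  · simp [h0]
  have := pow_smul_Eig (g := z) (ha v) p
  rw [e, one_smul] at this
  simp [ha, eq_one_of_pow_char_eq_one (p := p) (r := a)
    (smul_left_injective F h0 (by simpa using this.symm))]

theorem pow_three_of_center (hσ : IsBar 2 σ) {C : SU 3 F 2} (hC : C ∈ center (SU 3 F 2)) :
    C ^ 3 = 1 := by
  haveI := hσ.finite
  haveI := Fintype.ofFinite F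
  have := pow_card_eq_one' (x := (⟨_, hC⟩ : center _))
  rw [card_center_SU (card_of_isBar hσ) (by omega)] at this
  exact congrArg Subtype.val this

theorem exists_fix_two (h : IsHerm σ B) (hσ : IsBar 2 σ) [FiniteDimensional F V]
    (hd : finrank F V = 4) {ρ : SU 3 F 2 →* SUG B} {C R T : SU 3 F 2} (hC : C ∈ center (SU 3 F 2))
    (e : C * (R * T) = T * R) (hne : ρ C ≠ 1) : ∃ v, B v v = 1 ∧ ∀ x, ρ x • v = v := by
  haveI := hσ.finite
  haveI := Fintype.ofFinite F
  obtain ⟨ω, h1, h2⟩ := hσ.exists_norm_one_ne_one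
  have h3 : ω ^ 3 = 1 := by rw [← hσ.norm_eq, h1]
  have h4 : ω ^ 2 + ω + 1 = 0 := (mul_eq_zero_iff_left (sub_ne_zero.2 h2)).1 (by linear_combination h3)
  obtain ⟨l, l1, l3, w, w1, w0⟩ : ∃ l : F, l ≠ 1 ∧ l ^ 3 = 1 ∧ ∃ w ∈ Eig (ρ C) l, w ≠ 0 := by
    obtain ⟨v, hv⟩ : ∃ v : V, ρ C • v - v ≠ 0 := by
      by_contra! k
      exact hne (Subtype.ext (LinearEquiv.ext fun v => sub_eq_zero.1 (k v)))
    by_cases k : ρ C • (ρ C • v - v) - ω • (ρ C • v - v) = 0
    · exact ⟨ω, h2, h3, _, sub_eq_zero.1 k, hv⟩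
    refine ⟨ω ^ 2, fun k => h2 (by linear_combination h3 - ω * k), by rw [← pow_mul, mul_comm,
      pow_mul, h3, one_pow], _, ?_, k⟩
    have : ρ C • ρ C • ρ C • v = v := by
      rw [← mul_smul, ← mul_smul, ← pow_three', ← map_pow, pow_three_of_center hσ hC, map_one,
        one_smul]
    simp only [mem_Eig, smul_sub, this, sug_smul_smul]
    generalize ρ C • v = v1 at this
    generalize ρ C • v1 = v2 at this
    linear_combination (norm := module) h4 • (v1 - v2) + h3 • (v1 - v)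
  have inv : ∀ x, ∀ v ∈ Eig (ρ C) l, (ρ x).1.toLinearMap v ∈ Eig (ρ C) l := fun x v =>
    Eig_commute (Commute.map (mem_center_iff.1 hC x).symm ρ)
  have d1 : l ^ finrank F (Eig (ρ C) l) = 1 := by
    have u : ∀ x, LinearMap.det (LinearMap.restrict _ (inv x)) ≠ 0 := fun x =>
      (LinearMap.isUnit_det _ ((LinearMap.isUnit_iff_ker_eq_bot _).2 (LinearMap.ker_eq_bot.2
        fun a b k => Subtype.ext ((ρ x).1.injective (congrArg Subtype.val k))))).ne_zero
    have : l • (LinearMap.restrict _ (inv R) ∘ₗ LinearMap.restrict _ (inv T)) =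
        LinearMap.restrict _ (inv T) ∘ₗ LinearMap.restrict _ (inv R) := by
      ext v
      change l • ρ R • ρ T • (v : V) = ρ T • ρ R • (v : V)
      rw [← show ρ C • ρ R • ρ T • (v : V) = l • ρ R • ρ T • (v : V) from inv R _ (inv T _ v.2),
        ← mul_smul, ← mul_smul, ← mul_smul, ← map_mul, ← map_mul, ← map_mul, mul_assoc, e]
    have := congrArg LinearMap.det this
    rw [LinearMap.det_smul, LinearMap.det_comp, LinearMap.det_comp, mul_comm (LinearMap.det _)] at this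
    exact (mul_eq_right₀ (mul_ne_zero (u _) (u _))).1 this
  have d2 : finrank F (Eig (ρ C) l) = 3 := by
    have a := Submodule.finrank_eq_zero.not.2 ((Submodule.ne_bot_iff _).2 ⟨w, w1, w0⟩)
    have b := (Eig (ρ C) l).finrank_le
    generalize finrank F (Eig (ρ C) l) = d at a b d1
    rw [hd] at b
    interval_cases d
    · exact absurd rfl a
    · exact absurd (by simpa using d1) l1
    · exact absurd (by linear_combination l3 - l * d1) l1
    · rfl
    · exact absurd (by linear_combination d1 - l * l3) l1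
  have d3 : finrank F (perp B (Eig (ρ C) l)) = 1 := by rw [h.finrank_perp]; omega
  obtain ⟨a, a1, a0⟩ := (Submodule.ne_bot_iff _).1 (Submodule.finrank_eq_zero.not.1
    (d3.trans_ne one_ne_zero))
  have fx : ∀ x, ρ x • a = a := fun x => (eq_top_of_pow_four (card_of_isBar hσ)
    (M := (MulAction.stabilizer _ a).comap ρ) fun x hx => by
      obtain ⟨c, hc⟩ := exists_eq_smul d3.le a1 a0 (v := ρ x • a) fun u hu => by
        rw [← sug_map (ρ x⁻¹), ← mul_smul, ← map_mul, inv_mul_cancel, map_one, one_smul]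
        exact a1 _ (inv x⁻¹ u hu)
      have := pow_smul_Eig (g := ρ x) hc 4
      rw [← map_pow, hx, map_one, one_smul, show c ^ 4 = c by
        simpa [card_of_isBar hσ] using FiniteField.pow_card c] at this
      exact hc.trans this.symm).ge (mem_top x)
  obtain ⟨c, -, hc⟩ := exists_unit_smul h (z := a) fun k => l1 (smul_left_injective F a0 (by
    have : a ∈ perp B (perp B (Eig (ρ C) l)) := fun u hu => by
      obtain ⟨c, rfl⟩ := exists_eq_smul d3.le a1 a0 hu
      simp [k]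
    rw [h.perp_perp, mem_Eig, fx] at this
    simpa using this.symm))
  exact ⟨_, hc, fun x => by rw [sug_smul_smul, fx]⟩

theorem range_eq_Blk' (h : IsHerm σ B) (hσ : IsBar q σ) [FiniteDimensional F V] {ι : Type*}
    [Fintype ι] [DecidableEq ι] {e : ι → V} (he : IsON B e) (hd : finrank F V = Fintype.card ι)
    {S : Set ι} {m : ℕ} (hS : S.ncard = m) {φ : SU m F q →* SUG B} (hφ : Function.Injective φ)
    (H : ∀ s, φ s ∈ Blk B e S) : φ.range = Blk B e S := by
  haveI := hσ.finite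
  obtain ⟨f⟩ := nonempty_Blk_equiv h he hd hσ hS
  haveI : Finite (Blk B e S) := .of_equiv _ f.symm.toEquiv
  exact eq_of_le_of_card_ge (by rintro _ ⟨s, rfl⟩; exact H s)
    (Nat.card_congr (f.trans (MonoidHom.ofInjective hφ)).toEquiv).le

theorem su2_pow (hσ : IsBar q σ) {t : SU 2 F q} (ht : t.1.1 0 1 = 0) : t ^ (q + 1) = 1 := by
  have : ∀ k : ℕ, (t ^ k).1.1 0 0 = t.1.1 0 0 ^ k ∧ (t ^ k).1.1 0 1 = 0 := fun k => by
    induction k with
    | zero => simp
    | succ k ih => simp only [pow_succ, su_mul_val, Matrix.mul_apply, Fin.sum_univ_two, ih, ht]; simp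
  refine su2_ext hσ ((this _).1.trans ?_) ((this _).2.trans (by simp))
  simpa [ht, ← hσ.norm_eq] using su2_norm hσ t

theorem commute_em (hσ : IsBar q σ) {s t : SU 2 F q} (hs : s.1.1 0 1 = 0) (ht : t.1.1 0 1 = 0) :
    Commute (em hσ 2 3 0 s) (em hσ 2 3 1 t) := Subtype.ext (Subtype.ext (by
  simp [su_mul_val, em0_val, em1_val, hs, ht, mul_comm]))

variable {G : Type*} [Group G]

theorem eq_one_of_commute (hσ : IsBar q σ) {π : SU 3 F q →* G} (h : π.ker ≤ center _)
    {w y : SU 2 F q} (w0 : w.1.1 0 0 = 0) (w1 : w.1.1 0 1 = 1) :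
    (Commute (π (em hσ 2 3 0 y)) (π (em hσ 2 3 1 w)) → y = 1) ∧
      (Commute (π (em hσ 2 3 1 y)) (π (em hσ 2 3 0 w)) → y = 1) := by
  haveI := hσ.finite
  haveI := Fintype.ofFinite F
  have key : ∀ x z, Commute (π x) (π z) → ∃ a : F, x.1.1 * z.1.1 = a • (z.1.1 * x.1.1) :=
    fun x z k => by
    obtain ⟨a, ha⟩ := (mem_center_SU (card_of_isBar hσ) (by omega)).1
      (h (x := x * z * (z * x)⁻¹) (by simp [MonoidHom.mem_ker, k.eq]))
    exact ⟨a, by rw [← su_mul_val, ← inv_mul_cancel_right (x * z) (z * x), su_mul_val, ha,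
      smul_mul_assoc, one_mul, su_mul_val]⟩
  have hn := su2_norm hσ y
  refine ⟨fun k => ?_, fun k => ?_⟩ <;> obtain ⟨a, ha⟩ := key _ _ k <;>
    simp [em0_val, em1_val, w0, w1] at ha <;> refine su2_ext hσ ?_ (by simp [ha])
  · simpa using by linear_combination ha.1.1 - y.1.1 0 0 * ha.2.1.2 + hn - σ (y.1.1 0 1) * ha.1.2.2
  · simpa using by
      linear_combination ha.2.1.1 + (1 - a) * (hn - σ (y.1.1 0 1) * ha.2.1.2) -
        y.1.1 0 0 * ha.2.2.2.2

theorem exists_std4 (hσ : IsBar q σ) (hq : q = 2 ∨ q = 3) {A B C : Subgroup G}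
    {π π' : SU 3 F q →* G} (h : Std3 hσ π A B) (h' : Std3 hσ π' B C)
    (hc : ∀ x ∈ A, ∀ y ∈ C, x * y = y * x) (g : SU 4 F q →* ↥(π.range ⊔ π'.range))
    (hg : Function.Surjective g) : ∃ Φ, Std4 hσ Φ A B C π.range π'.range := by
  haveI := hσ.finite
  haveI := Fintype.ofFinite F
  have hF := card_of_isBar hσ
  have H := hσ.isHerm (ι := Fin 4)
  have hd : finrank F (Fin 4 → F) = 4 := by simp
  have hK := hσ.card_fixedField
  obtain ⟨ε⟩ := nonempty_SU_two_equiv hF hK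
  obtain ⟨p, _⟩ := CharP.exists F
  haveI := Fact.mk (CharP.char_is_prime F p)
  obtain ⟨γ, hγ⟩ : ∃ γ : SUG (stdForm σ (Fin 4)) →* G, γ.range = π.range ⊔ π'.range :=
    ⟨(Subgroup.subtype _).comp (g.comp (hσ.suEquiv 4).symm.toMonoidHom),
      (MonoidHom.range_comp _ _).trans ((congrArg _ (MonoidHom.range_eq_top.2
        (show Function.Surjective (g.comp (hσ.suEquiv 4).symm.toMonoidHom) from
          hg.comp (hσ.suEquiv 4).symm.surjective))).trans
        ((MonoidHom.range_eq_map _).symm.trans (range_subtype _)))⟩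
  have i0 := injective_comp_em hσ (a := 0) (by omega) h.1 (by omega)
  have i1 := injective_comp_em hσ (a := 1) (by omega) h.1 le_rfl
  have i2 := injective_comp_em hσ (a := 0) (by omega) h'.1 (by omega)
  have i3 := injective_comp_em hσ (a := 1) (by omega) h'.1 le_rfl
  have m0 : ∀ x, π (em hσ 2 3 0 x) ∈ A := fun x => h.2.1.le ⟨_, em_mem hσ (by omega) x, rfl⟩
  have m3 : ∀ x, π' (em hσ 2 3 1 x) ∈ C := fun x => h'.2.2.le ⟨_, em_mem hσ le_rfl x, rfl⟩
  obtain ⟨w, w0, w1⟩ := exists_su2 hσ (a := 0) (b := 1) (by simp)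
  obtain ⟨b, b1, b2⟩ := exists_norm_one_ne_bar hσ
  obtain ⟨t, t0, t1⟩ := exists_su2 hσ (a := b) (b := 0) (by simpa)
  obtain ⟨c, hcs⟩ := exists_shift hσ
  have wn : w ≠ 1 := by rintro rfl; simp at w0
  have hker : γ.ker ≤ center _ := (H.normal_SUG hσ (by omega) (by omega) γ.ker).resolve_right
    fun k => wn (i0 (by
      obtain ⟨x, hx⟩ := hγ.ge (mem_sup_left ⟨em hσ 2 3 0 w, rfl⟩)
      exact (hx.symm.trans (k.ge (mem_top x))).trans (map_one _).symm))
  have fin : ∀ {φ ψ χ : SL(2, fixedField σ) →* SUG (stdForm σ (Fin 4))} {e},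
      (∀ s, γ (φ s) = π (em hσ 2 3 0 (ε.symm s))) → (∀ s, γ (ψ s) = π (em hσ 2 3 1 (ε.symm s))) →
      (∀ s, γ (χ s) = π' (em hσ 2 3 1 (ε.symm s))) → IsON _ e → φ.range = Blk _ e (Iv 4 0 2) →
      ψ.range = Blk _ e (Iv 4 1 3) → χ.range = Blk _ e (Iv 4 2 4) →
      ((Blk _ e (Iv 4 0 2)).map γ = A → (Blk _ e (Iv 4 1 3)).map γ = B →
        (Blk _ e (Iv 4 2 4)).map γ = C → (Blk _ e (Iv 4 0 3)).map γ = π.range ∧
        (Blk _ e (Iv 4 1 4)).map γ = π'.range) → ∃ Φ, Std4 hσ Φ A B C π.range π'.range :=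
    fun {φ ψ χ e} a1 a2 a3 he r1 r2 r3 k => by
    obtain ⟨f, hf⟩ := exists_frame_iso H hσ he hd
    have key : ∀ {φ : SL(2, fixedField σ) →* SUG (stdForm σ (Fin 4))} {π : SU 3 F q →* G} {a},
        a ≤ 1 → (∀ s, γ (φ s) = π (em hσ 2 3 a (ε.symm s))) →
        φ.range.map γ = (sB hσ (Iv 3 a (a + 2))).map π := fun {φ π a} ha k => by
      rw [← range_em hσ (by omega), ← MonoidHom.range_comp, ← MonoidHom.range_comp,
        show γ.comp φ = (π.comp (em hσ 2 3 a)).comp ε.symm.toMonoidHom from MonoidHom.ext k,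
        MonoidHom.range_comp, MonoidHom.range_eq_top.2 ε.symm.surjective, ← MonoidHom.range_eq_map]
    have k1 := r1 ▸ (key (by omega) a1).trans h.2.1
    have k2 := r2 ▸ (key le_rfl a2).trans h.2.2
    have k3 := r3 ▸ (key le_rfl a3).trans h'.2.2
    refine ⟨γ.comp f.toMonoidHom, fun x hx => (mem_center_equiv f).1 (hker hx), ?_⟩
    simp only [← Subgroup.map_map, hf]
    exact ⟨k1, k2, k3, k k1 k2 k3⟩
  have inj : ∀ {φ : SL(2, fixedField σ) →* SUG (stdForm σ (Fin 4))} {θ : SU 2 F q →* G},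
      Function.Injective θ → (∀ s, γ (φ s) = θ (ε.symm s)) → Function.Injective φ :=
    fun i k x y e => ε.symm.injective (i (by rw [← k, ← k, e]))
  have hne : ∀ {φ ψ : SL(2, fixedField σ) →* SUG (stdForm σ (Fin 4))},
      (∀ s, γ (φ s) = π (em hσ 2 3 0 (ε.symm s))) → (∀ s, γ (ψ s) = π (em hσ 2 3 1 (ε.symm s))) →
      φ.range ≠ ψ.range := fun a1 a2 k => by
    obtain ⟨s, hs⟩ := k.le ⟨ε w, rfl⟩
    have := congrArg γ hs
    rw [a1, a2, ε.symm_apply_apply] at this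
    obtain ⟨a, ha⟩ := (mem_center_SU hF (by omega)).1 (h.1 (x := em hσ 2 3 1 (ε.symm s)⁻¹ *
      em hσ 2 3 0 w) (by simp [MonoidHom.mem_ker, this]))
    generalize (ε.symm s)⁻¹ = y at ha
    simpa [su_mul_val, em0_val, em1_val, w1] using congrFun (congrFun ha 0) 1
  have tt : t * t ≠ 1 := fun k => b2 (by
    have : b * b = 1 := by simpa [su_mul_val, Matrix.mul_apply, t0, t1] using congrArg (·.1.1 0 0) k
    linear_combination b * b1 - σ b * this)
  have t2 : t ≠ 1 := by rintro rfl; simp at tt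
  rcases hq with rfl | rfl
  · have gi : Function.Injective γ := (MonoidHom.ker_eq_bot_iff γ).1 (le_bot_iff.1 (hker.trans
      (card_eq_one.1 (by rw [H.card_center_SUG hσ (by omega), hd]; rfl)).le))
    have hC : em hσ 2 3 0 t * (em hσ 2 3 1 t)⁻¹ ∈ center _ := (mem_center_SU hF (by omega)).2 ⟨b, by
      have b3 : σ b * σ b = b := by rw [← map_mul, ← sq, ← hσ.eq, hσ.invol]
      rw [← map_inv, su_mul_val, em0_val, em1_val, su_inv hσ, su_inv hσ, su2_10 hσ]
      ext i j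
      fin_cases i <;> fin_cases j <;> simp [t0, t1, b3, hσ.invol]⟩
    have key : ∀ {π₀ : SU 3 F 2 →* G}, π₀.ker ≤ center _ → π₀.range ≤ γ.range →
        π₀ (em hσ 2 3 0 t) ≠ π₀ (em hσ 2 3 1 t) → ∃ ρ : SU 3 F 2 →* _, (∀ x, γ (ρ x) = π₀ x) ∧
        Function.Injective ρ ∧ ∃ v, stdForm σ (Fin 4) v v = 1 ∧ ∀ x, ρ x • v = v :=
      fun {π₀} k1 k2 k3 => by
      obtain ⟨ρ, hρ⟩ : ∃ ρ : SU 3 F 2 →* _, ∀ x, γ (ρ x) = π₀ x :=
        ⟨(MonoidHom.ofInjective gi).symm.toMonoidHom.comp (π₀.codRestrict _ fun x => k2 ⟨x, rfl⟩),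
          fun _ => MonoidHom.apply_ofInjective_symm gi _⟩
      have k4 : π₀ (em hσ 2 3 0 t * (em hσ 2 3 1 t)⁻¹) ≠ 1 := by simpa [mul_inv_eq_one]
      refine ⟨ρ, hρ, .of_comp (f := γ) ?_, exists_fix_two H hσ hd hC (R := c) (T := em hσ 2 3 0 t)
        (by rw [← hcs]; group) fun k => k4 (by rw [← hρ, k, map_one])⟩
      rw [show γ ∘ ρ = π₀ from funext hρ, ← MonoidHom.ker_eq_bot_iff, ← card_eq_one]
      have := card_dvd_of_le k1
      rw [card_center_SU hF (by omega)] at this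
      exact ((Nat.dvd_prime Nat.prime_three).1 this).resolve_right fun k => k4
        ((eq_of_le_of_card_ge k1 (by rw [k, card_center_SU hF (by omega)]; rfl)).ge hC)
    obtain ⟨ρ, r1, r2, v, v1, v2⟩ := key h.1 (hγ ▸ le_sup_left) fun k => by
      obtain ⟨_, ⟨y, rfl⟩, hy⟩ := (range_em hσ (m := 2) (n := 3) (a := 0) (by omega) ▸
          h.2.2.trans h'.2.1.symm).le
        ⟨_, em_mem hσ le_rfl t, rfl⟩
      obtain rfl := (eq_one_of_commute hσ h'.1 w0 w1 (y := y)).1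
        ((hy.trans k.symm) ▸ hc _ (m0 t) _ (m3 w))
      exact t2 (i1 (hy.symm.trans (by simp)))
    obtain ⟨ρ', r3, r4, v', v3, v4⟩ := key h'.1 (hγ ▸ le_sup_right) fun k => by
      obtain ⟨_, ⟨y, rfl⟩, hy⟩ := (range_em hσ (m := 2) (n := 3) (a := 1) le_rfl ▸
          h'.2.1.trans h.2.2.symm).le
        ⟨_, em_mem hσ (by omega) t, rfl⟩
      obtain rfl := (eq_one_of_commute hσ h.1 w0 w1 (y := y)).2
        ((hy.trans k) ▸ (hc _ (m0 w) _ (m3 t)).symm)
      exact t2 (i2 (hy.symm.trans (by simp)))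
    obtain ⟨e, he, rfl, e1, e2, e3⟩ := exists_frame_four H hσ hK hd
      (φ := (ρ.comp (em hσ 2 3 0)).comp ε.symm.toMonoidHom)
      (ψ := (ρ.comp (em hσ 2 3 1)).comp ε.symm.toMonoidHom)
      (χ := (ρ'.comp (em hσ 2 3 1)).comp ε.symm.toMonoidHom) (inj i0 fun _ => r1 _)
      (inj i1 fun _ => r1 _) (inj i3 fun _ => r3 _) v1 (fun _ => v2 _) (fun _ => v2 _)
      (hne (fun _ => r1 _) fun _ => r1 _) (s := ε t) (by simpa) (by rw [← map_pow, su2_pow hσ t1, map_one])
      (t := ε t) (by simpa) (by rw [← map_pow, su2_pow hσ t1, map_one])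
      (by simpa using (commute_em hσ t1 t1).map ρ)
      fun s t => gi (by simpa [r1, r3] using hc _ (m0 _) _ (m3 _))
    refine fin (fun _ => r1 _) (fun _ => r1 _) (fun _ => r3 _) he e1 e2 e3 fun _ k _ => ⟨?_, ?_⟩
    · rw [← range_eq_Blk' H hσ he (by simp) (ncard_Iv (by omega)) r2 fun s i hi => by
        fin_cases i <;> simp at hi
        exact v2 s, ← MonoidHom.range_comp, show γ.comp ρ = π from MonoidHom.ext r1]
    have p1 : ∀ x ∈ Blk _ e (Iv 4 1 3), x • v' = v' := fun x hx => by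
      obtain ⟨y, -, hy⟩ := (k.trans h'.2.1.symm).le ⟨x, hx, rfl⟩
      rw [← gi ((r3 y).trans hy), v4]
    have p2 : ∀ x ∈ Blk _ e (Iv 4 2 4), x • v' = v' := fun x hx => by
      obtain ⟨y, rfl⟩ := e3.ge hx
      exact v4 _
    have p3 := eq_sum_on H he (by simp) v'
    rw [Fin.sum_univ_four, perp_of_fix H hσ he (by simp) (i := 1) (j := 2) (by decide) fun x hx =>
        p1 x (Blk_mono (by rintro _ (rfl | rfl) <;> simp) hx),
      perp_of_fix H hσ he (by simp) (i := 2) (j := 3) (by decide) fun x hx =>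
        p2 x (Blk_mono (by rintro _ (rfl | rfl) <;> simp) hx),
      perp_of_fix H hσ he (by simp) (i := 3) (j := 2) (by decide) fun x hx =>
        p2 x (Blk_mono (by rintro _ (rfl | rfl) <;> simp) hx)] at p3
    simp only [zero_smul, add_zero] at p3
    rw [← range_eq_Blk' H hσ he (by simp) (ncard_Iv le_rfl) r4 fun s i hi => by
      fin_cases i <;> simp at hi
      have := v4 s
      rw [p3, sug_smul_smul] at this
      exact smul_right_injective _ (fun k => by rw [p3, k] at v3; simp at v3) this,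
      ← MonoidHom.range_comp, show γ.comp ρ' = π' from MonoidHom.ext r3]
  have h2 : (2 : F) ≠ 0 := mt two_eq_zero_iff.1 (by rw [hσ.card]; decide)
  have hS := centerPFree_SUG H (by omega) p
  haveI : Finite (SUG (stdForm σ (Fin 4))) := .of_equiv _ (hσ.suEquiv 4).toEquiv
  obtain ⟨φ, a1⟩ := exists_lift_SL2 p hS hker ((π.comp (em hσ 2 3 0)).comp ε.symm.toMonoidHom)
    (by rintro _ ⟨s, rfl⟩; exact hγ.ge (mem_sup_left ⟨_, rfl⟩))
  obtain ⟨χ, a3⟩ := exists_lift_SL2 p hS hker ((π'.comp (em hσ 2 3 1)).comp ε.symm.toMonoidHom)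
    (by rintro _ ⟨s, rfl⟩; exact hγ.ge (mem_sup_right ⟨_, rfl⟩))
  obtain ⟨x, hx⟩ := hγ.ge (mem_sup_left ⟨c, rfl⟩)
  have a2 : ∀ s, γ (x * φ s * x⁻¹) = π (em hσ 2 3 1 (ε.symm s)) := fun s => by
    simp [a1, hx, ← hcs]
  have n1 : ε.symm (-1) = t * t := ε.symm_apply_eq.2 (PSL2.eq_neg_one_of_orderOf_two
    (fun k => h2 (congrArg Subtype.val k)) (orderOf_eq_prime (by
      rw [← map_pow, ← sq, ← pow_mul, su2_pow hσ t1, map_one]) (by rwa [Ne, ε.map_eq_one_iff]))).symm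
  have cen : ∀ z ∈ center (SUG (stdForm σ (Fin 4))), ∀ y ∈ π.range ⊔ π'.range, Commute (γ z) y :=
    fun z hz y hy => by
    obtain ⟨y, rfl⟩ := hγ.ge hy
    exact Commute.map (mem_center_iff.1 hz y).symm γ
  have cc : ∀ s t, Commute (φ s) (χ t) := fun s t => by
    have : ∀ s, s ^ p = 1 → Commute (φ s) (χ t) := fun s hs =>
      hS.commute_of_mk (by rw [← map_pow, hs, map_one]) (QuotientGroup.eq.2 (hker (by
        simpa [MonoidHom.mem_ker, a1, a3, inv_mul_eq_one, mul_assoc, inv_mul_eq_iff_eq_mul] using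
          (hc _ (m0 _) _ (m3 _)).symm)))
    exact mem_centralizer_singleton_iff.1 ((SL2_eq_top' (M := (centralizer {χ t}).comap φ)
      (fun u => mem_centralizer_singleton_iff.2 (this _ (xU_pow (CharP.cast_eq_zero _ p) u)))
      fun u => mem_centralizer_singleton_iff.2 (this _ (xL_pow (CharP.cast_eq_zero _ p) u))).ge
      (mem_top s))
  have t3 : (t * t).1.1 0 1 = 0 := by simp [su_mul_val, Matrix.mul_apply, t1]
  have c1 : Commute (φ (-1)) (x * φ (-1) * x⁻¹) := by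
    have y2 : x * φ (-1) * x⁻¹ * (x * φ (-1) * x⁻¹) = 1 := by simp [← map_mul]
    have k := mem_center_iff.1 (hker (x := x * φ (-1) * x⁻¹ * φ (ε t) * (x * φ (-1) * x⁻¹)⁻¹ *
      (φ (ε t))⁻¹) (by
        rw [MonoidHom.mem_ker, map_mul γ, map_mul γ, map_mul γ, map_inv γ, map_inv γ, a2, a1, n1]
        rw [mul_inv_eq_one, mul_inv_eq_iff_eq_mul]
        simpa using ((commute_em hσ t1 t3).map π).symm.eq))
    generalize x * φ (-1) * x⁻¹ = y at y2 k
    rw [← ε.apply_symm_apply (-1), n1, map_mul, map_mul]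
    generalize φ (ε t) = T at k
    have k1 := Commute.mul_pow (k y⁻¹) 2
    have k2 := Commute.mul_pow (k T).symm 2
    rw [← sq] at y2
    rw [show ∀ z, y⁻¹ * (y * T * y⁻¹ * z) = T * y⁻¹ * z from fun z => by group, conj_pow, inv_pow,
      y2, inv_one, mul_one, mul_inv_cancel, one_mul] at k1
    rw [← k1, inv_mul_cancel_right, conj_pow, one_mul, mul_inv_eq_iff_eq_mul, sq] at k2
    exact k2.symm
  obtain ⟨v, v1, v2, v3⟩ := exists_fix_odd H hσ hK hd h2 cc
    (fun k => tt ((eq_one_of_commute hσ h.1 w0 w1).1 (by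
      simpa [a1, n1] using cen _ k _ (mem_sup_left ⟨_, rfl⟩))))
    (fun k => tt ((eq_one_of_commute hσ h'.1 w0 w1).2 (by
      simpa [a3, n1] using cen _ k _ (mem_sup_right ⟨_, rfl⟩)))) c1
    fun k => tt ((eq_one_of_commute hσ h.1 w0 w1).2 (by
      have k1 := cen _ k _ (mem_sup_left ⟨em hσ 2 3 0 w, rfl⟩)
      have k2 : Commute (γ (φ (-1))) (π (em hσ 2 3 0 w)) := by
        simpa [a1] using (Commute.neg_one_left (ε w)).map (γ.comp φ)
      simpa only [map_mul γ (φ _), inv_mul_cancel_left, a2, n1] using k2.inv_left.mul_left k1))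
  obtain ⟨e, he, -, e1, e2, e3⟩ := exists_frame_four H hσ hK hd (φ := φ)
    (ψ := (MulAut.conj x).toMonoidHom.comp φ) (χ := χ) (inj i0 a1) (inj i1 a2) (inj i3 a3) v1 v2 v3
    (hne a1 a2) (s := -1) (by rw [Ne, ← ε.symm.map_eq_one_iff, n1]; exact tt) (by norm_num)
    (t := -1) (by rw [Ne, ← ε.symm.map_eq_one_iff, n1]; exact tt) (by norm_num) c1 cc
  have gen : ∀ {π₀ : SU 3 F 3 →* G} {A B a}, a ≤ 1 → Std3 hσ π₀ A B →
      (Blk _ e (Iv 4 a (a + 2))).map γ = A → (Blk _ e (Iv 4 (a + 1) (a + 3))).map γ = B →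
      (Blk _ e (Iv 4 a (a + 3))).map γ = π₀.range := fun {π₀ A B a} ha k k1 k2 => by
    refine le_antisymm (map_le_iff_le_comap.2 (gen_chain H hσ he hd le_rfl (by omega) (by omega)
      (by omega) fun j j1 j2 => map_le_iff_le_comap.1 ?_)) ((k.range_le hσ (by omega)).trans
      (sup_le (k1 ▸ map_mono (Blk_mono (Iv_mono le_rfl (by omega))))
        (k2 ▸ map_mono (Blk_mono (Iv_mono (by omega) le_rfl)))))
    obtain rfl | rfl : j = a ∨ j = a + 1 := by omega
    exacts [k1 ▸ k.2.1 ▸ map_le_range _ _, k2 ▸ k.2.2 ▸ map_le_range _ _]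
  exact fin a1 a2 a3 he e1 e2 e3 fun k1 k2 k3 => ⟨gen (by omega) h k1 k2, gen le_rfl h' k2 k3⟩

end Cfsg.Lib.Pres
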