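import Cfsg.Agent.Lib.Pres.Sp
import Cfsg.Agent.Lib.Chev.Gen2
import Cfsg.Agent.Lib.Chev.SpinOmega

/-! Short presentations of the groups `Ω⁺`. -/

set_option autoImplicit false

namespace Cfsg.Lib.Pres

open Subgroup Matrix Cfsg.Lib.Chev Cfsg.Lib.Root RootSys Monoid Cfsg.Lib.Orth
open scoped MatrixGroups

variable {F G K : Type*} [Field F] [Group G] [Group K]
  {ι Φ : Type} [Fintype ι] [DecidableEq ι] {R : RootSys ι Φ}

/-- The centraliser of two families. -/
def cz (p m : F → K) : Subgroup K := centralizer (Set.range p ∪ Set.range m)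

omit [Field F] in
theorem mem_cz {p m : F → K} {g : K} :
    g ∈ cz p m ↔ (∀ t, Commute g (p t)) ∧ ∀ t, Commute g (m t) := by
  simp [cz, mem_centralizer_iff, or_imp, forall_and, Commute, SemiconjBy, eq_comm]

omit [Field F] in
theorem comm_iff {p m p' m' : F → K} :
    (∀ a ∈ [p, m], ∀ b ∈ [p', m'], ∀ t u, Commute (a t) (b u)) ↔
      (∀ t, p t ∈ cz p' m') ∧ ∀ t, m t ∈ cz p' m' := by
  simp only [List.forall_mem_cons, List.not_mem_nil, false_imp_iff, implies_true, and_true]
  simp only [mem_cz, forall_and]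

omit [Field F] in
theorem comm_symm {p m p' m' : F → K}
    (h : ∀ a ∈ [p, m], ∀ b ∈ [p', m'], ∀ t u, Commute (a t) (b u)) :
    ∀ a ∈ [p', m'], ∀ b ∈ [p, m], ∀ t u, Commute (a t) (b u) :=
  fun a ha b hb t u => (h b hb a ha u t).symm

/-- One relation kills the kernel of the Curtis–Tits cover. -/
theorem Imp.ct [Fintype Φ] {C : ChevSys R F G} (hF : C.Faithful) {T : ChevTab R}
    (hT : T.StrongComm C.x) (hM : C.HMul) (hA : T.Anti) (hL : R.Laced) (htop : C.grp = ⊤)
    [IsCyclic hM.torus.ker] {J : Type} [Group J] {π : J →* G} {p m : ι → F → J}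
    (hp : ∀ k t, π (p k t) = C.x (R.simple k) t) (hm : ∀ k t, π (m k t) = C.x (R.neg (R.simple k)) t) :
    Imp π 1 fun K _ f => CTRels R.A (fun i => f ∘ p i) (fun i => f ∘ m i) → ∃ Φ : G →* K,
      (∀ i t, Φ (π (p i t)) = f (p i t)) ∧ ∀ i t, Φ (π (m i t)) = f (m i t) := by
  obtain ⟨⟨z, hz⟩, hz'⟩ := IsCyclic.exists_generator (α := hM.torus.ker)
  have hl := Finset.nodup_toList (Finset.univ : Finset ι)
  have hl' : ∀ i, i ∈ (Finset.univ : Finset ι).toList := by simp
  refine (Imp.eq (a := (Finset.univ.toList.map fun i => stH (p i) (m i) (z i)).prod) (b := 1) ?_).mono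
    le_rfl fun K _ f hf h => ?_
  · rw [map_one, ← MonoidHom.mem_ker.1 hz, hM.torus_eq_prod hl hl', map_list_prod, List.map_map]
    refine congrArg _ (List.map_congr_left fun k _ => ?_)
    rw [Function.comp, map_stH, ← C.stH_eq, ← funext (hp k), ← funext (hm k)]; rfl
  obtain ⟨C', c1, c2, c3, c4⟩ := hF.exists_sys_laced hT hM hA hL h
  obtain ⟨Φ, hΦ⟩ := hF.exists_hom_of_sys htop c1 (.id K) fun g hg _ e => by
    obtain ⟨c, rfl⟩ := c2.exists_torus hg
    obtain ⟨i, hi⟩ := hz' ⟨c, (c2.map_torus hM c1 c).symm.trans e⟩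
    have : (c2.torus z).2 = 1 := by
      rw [c2.torus_eq_prod hl hl', ← map_one f, ← hf, map_list_prod, List.map_map]
      refine (map_list_prod (MonoidHom.snd G K) _).trans (congrArg _ ?_)
      rw [List.map_map]
      refine List.map_congr_left fun k _ => ?_
      rw [Function.comp, Function.comp, map_stH, ← C'.stH_eq, map_stH, ← funext (c3 k), ← funext (c4 k)]
      rfl
    rw [← show z ^ i = c from congrArg Subtype.val hi, map_zpow, Prod.pow_snd, this,
      _root_.one_zpow, map_one]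
  exact ⟨Φ, fun i t => by rw [hp, hΦ, MonoidHom.id_apply, c3]; rfl,
    fun i t => by rw [hm, hΦ, MonoidHom.id_apply, c4]; rfl⟩

theorem commute_orth (C : ChevSys R F G) (hR : ∀ r, R.ln r = 1) {r s : Φ} (h : R.pair r s = 0) :
    ∀ t, C.x r t ∈ cz (C.x s) (C.x (R.neg s)) := by
  have : ∀ {s}, R.pair r s = 0 → ∀ t u, Commute (C.x r t) (C.x s u) := fun h =>
    C.commute_of_not_between (ne_neg_of_pair (by omega)) fun k hk => by
      have := (hk.of_orth h).2.2
      rw [hR, hR] at this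
      omega
  exact fun t => mem_cz.2 ⟨this h t, this (by simp [h]) t⟩

/-- An element inducing a product of two commuting reflections. -/
theorem exists_flip (C : ChevSys R F G) (hR : ∀ r, R.ln r = 1) {r r' a b : Φ} (h1 : R.pair r r' = 0)
    (h2 : R.pair r a = 1) (h3 : R.pair r' a = -1) (h4 : R.pair b a = 0) (h5 : R.pair b r = -1)
    (h6 : R.pair b r' = 1) : ∃ y : G, (∀ s, R.pair r s = 0 → R.pair r' s = 0 →
      y ∈ cz (C.x s) (C.x (R.neg s))) ∧ (∀ t, y * C.x a t * y⁻¹ = C.x b t) ∧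
        ∀ t, y * C.x (R.neg a) t * y⁻¹ = C.x (R.neg b) t := by
  have A := fun c => ((C.acts_n_one r).mul (C.acts_n_one r')).mul (C.acts_h r c)
  have e : R.refl r (R.refl r' a) = b := eq_of_pair_two (by rw [hR, hR]) (by
    simp only [pair_refl, h1, h2, h3, h4, h5, h6]; omega)
  let c := (C.eta r (R.refl r' a) * C.eta r' a)⁻¹
  have e1 : C.eta r (R.refl r' a) * C.eta r' a * c ^ R.pair r a = 1 := by simp [h2, c]
  refine ⟨C.n r 1 * C.n r' 1 * C.h r c, fun s hs hs' => ?_, fun t => ?_, fun t => ?_⟩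
  · have a1 := commute_orth C hR hs
    have a2 := commute_orth C hR (r := R.neg r) (by simpa using hs)
    exact mul_mem (mul_mem (C.n_mem a1 a2 _) (C.n_mem (commute_orth C hR hs')
      (commute_orth C hR (by simpa using hs')) _)) (C.h_mem a1 a2 _)
  · simpa [e, e1] using (A c).conj a t
  · have := (A c).neg a
    have h := (A c).conj (R.neg a) t
    simp only [Equiv.Perm.one_apply, e1, one_mul] at this h
    rw [this] at h
    simpa [(R.isAut_refl _).neg, e] using h

theorem rs_of_seed {C : ChevSys R F G} (hM : C.HMul) [Finite F] {M : Subgroup G} {r s : Φ}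
    (h : R.pair s r = -1) (hs : ∀ c, ∀ g ∈ M, C.h s c * g * (C.h s c)⁻¹ ∈ M) {u : F} (hu : u ≠ 0)
    (hx : C.x r u ∈ M) : C.RS M r := fun t => by
  by_cases e : t = 0
  · rw [e, C.x_zero]; exact one_mem _
  · simpa [C.h_conj, h, e, hu] using hs (Units.mk0 u hu / Units.mk0 t e) _ hx

theorem rs_of_seed' {C : ChevSys R F G} (hM : C.HMul) [Finite F] {M : Subgroup G} {r s : Φ}
    (h : R.pair s r = -1) (hs : ∀ c, ∀ g ∈ M, C.h s c * g * (C.h s c)⁻¹ ∈ M) {c : Fˣ} (hc : c ≠ 1)
    (hx : C.x r 1 * C.n r 1 ∈ M) : C.RS M r := by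
  have h1 : C.x r c * C.n r c ∈ M := by
    have := hs c⁻¹ _ hx
    rw [← conj_mul, C.h_conj, (C.acts_h s _).conj_n] at this
    simpa [h] using this
  have h2 : C.x r (c - c ^ 2) * C.h r c ∈ M := by
    have := C.h_conj r r c (-1)
    convert mul_mem h1 (inv_mem hx) using 1
    rw [sub_eq_add_neg, C.x_add, show -(c : F) ^ 2 = (c ^ R.pair r r : Fˣ) * -1 by simp [zpow_two, sq],
      ← this, C.x_neg, C.h_def]
    group
  refine rs_of_seed hM h hs (u := c * (c - c ^ 2) - (c - c ^ 2)) (fun e => hc (Units.ext ?_)) ?_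
  · have : (c : F) * (c - 1) ^ 2 = 0 := by linear_combination -e
    simpa [sub_eq_zero] using this
  · convert mul_mem (hs c⁻¹ _ h2) (inv_mem h2) using 1
    rw [← conj_mul, C.h_conj, hM.conj_h (C.acts_h s _), sub_eq_add_neg, C.x_add, C.x_neg]
    simp [h]

theorem rs_neg_of_conj {C : ChevSys R F G} {M : Subgroup G} {r : Φ} (h : C.RS M r) {a : G}
    (ha : ∀ t, Commute a (C.x r t)) (hx : C.n r 1 * a ∈ M) : C.RS M (R.neg r) := fun t => by
  have := mul_mem (mul_mem hx (h (-t))) (inv_mem hx)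
  rw [mul_assoc _ a, (ha _).eq, _root_.mul_inv_rev, ← mul_assoc, ← mul_assoc, mul_inv_cancel_right,
    C.n_conj_self] at this
  simpa using this

/-- Both root subgroups of a node lie in `M`. -/
def Nd (C : ChevSys R F G) (M : Subgroup G) (i : ι) : Prop :=
  C.RS M (R.simple i) ∧ C.RS M (R.neg (R.simple i))

theorem Nd.commute {C : ChevSys R F G} {i j : ι} (h : R.A i j = 0) :
    Nd C (cz (C.x (R.simple j)) (C.x (R.neg (R.simple j)))) i :=
  comm_iff.1 (commute_of_A C.toPreSys h)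

theorem exists_seeds [Finite F] {C : ChevSys R F G} (hM : C.HMul) {o a b j : ι} (h1 : R.A b a = -1)
    (h2 : R.A o a = 0) (P : Prop) [Decidable P] (h3 : P → R.A b o = -1)
    (h4 : ¬ P → R.A o j = -1 ∧ R.A j o = -1 ∧ R.A a j = 0) : ∃ l : List G,
      l.length ≤ (if P then 2 else 1) + (if Nat.card F = 2 then 1 else 0) ∧
      (∀ M, Nd C M o → Nd C M a → ∀ g ∈ l, g ∈ M) ∧
      ∀ M : Subgroup G, (∀ c, ∀ g ∈ M, C.h (R.simple b) c * g * (C.h (R.simple b) c)⁻¹ ∈ M) →
        (¬ P → Nd C M j) → (∀ g ∈ l, g ∈ M) → Nd C M o ∧ Nd C M a := by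
  let α := C.x (R.simple a) 1 * C.n (R.simple a) 1
  have hα : ∀ M, Nd C M a → α ∈ M := fun M h => mul_mem (h.1 _) (C.n_mem h.1 h.2 _)
  refine ⟨C.n (R.simple o) 1 * α :: ((if P then [C.x (R.simple o) 1] else []) ++
    if Nat.card F = 2 then [C.x (R.simple a) 1] else []), by split_ifs <;> simp, fun M m1 m2 => ?_,
    fun M m1 m2 m3 => ?_⟩
  · have := mul_mem (C.n_mem m1.1 m1.2 1) (hα M m2)
    split_ifs <;> simp [this, m1.1 _, m2.1 _]
  have m4 := m3 _ List.mem_cons_self
  have m5 : Nd C M o := by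
    by_cases e : P
    · have := rs_of_seed hM ((R.pair_simple_simple _ _).trans (h3 e)) m1 one_ne_zero
        (m3 _ (by simp [e]))
      refine ⟨this, rs_neg_of_conj this (mem_cz.1 (hα _ (Nd.commute ?_))).1 m4⟩
      rwa [← R.pair_simple_simple, R.pair_eq_zero_comm, R.pair_simple_simple]
    · obtain ⟨e1, e2, e3⟩ := h4 e
      have c := mem_cz.1 (hα _ (Nd.commute e3))
      have w := ChevSys.RS.refl_mem (m2 e).1 (m2 e).2
      have : ∀ {s}, C.RS M s → (∀ t, Commute α (C.x s t)) → C.RS M (R.sref j (R.sref o s)) :=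
        fun {s} hs hc => R.refl_simple j ▸ ChevSys.RS.map (fun t => by
          have := mul_mem (mul_mem m4 (hs (((C.η o s)⁻¹ : Fˣ) * t))) (inv_mem m4)
          rwa [mul_assoc _ α, (hc _).eq, _root_.mul_inv_rev, ← mul_assoc, ← mul_assoc,
            mul_inv_cancel_right, (C.acts_n_simple o).conj, Units.mul_inv_cancel_left] at this) w
      exact ⟨sref_sref_bond e2 e1 ▸ this (m2 e).1 c.1, by
        simpa only [sref_neg, sref_sref_bond e2 e1] using this (m2 e).2 c.2⟩
  have m6 : α ∈ M := (M.mul_mem_cancel_left (C.n_mem m5.1 m5.2 1)).1 m4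
  have m7 : C.RS M (R.simple a) := by
    have h := (R.pair_simple_simple _ _).trans h1
    by_cases e : Nat.card F = 2
    · exact rs_of_seed hM h m1 one_ne_zero (m3 _ (by simp [e]))
    · obtain ⟨c, hc⟩ := @exists_ne Fˣ (Finite.one_lt_card_iff_nontrivial.1 (by
        have := Finite.one_lt_card (α := F)
        rw [Nat.card_units]; omega)) 1
      exact rs_of_seed' hM h m1 hc m6
  exact ⟨m5, m7, rs_neg_of_conj m7 (fun _ => .one_left _)
    (by simpa using (M.mul_mem_cancel_left (m7 1)).1 m6)⟩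

theorem laced_D {n : ℕ} (hn : 2 ≤ n) : (rootD hn).Laced := fun i j h => by
  rw [A_D, if_neg h]
  split_ifs <;> simp

theorem exists_flip_D {k : ℕ} {hn : 2 ≤ k + 4} (C : ChevSys (rootD hn) F G) : ∃ y : G,
    (∀ i : Fin (k + 1), Nd C (centralizer {y}) i.succ.castSucc.castSucc) ∧
      (∀ t, y * C.x ((rootD hn).simple (Fin.last _).castSucc) t * y⁻¹ =
        C.x ((rootD hn).simple (.last _)) t) ∧
      ∀ t, y * C.x ((rootD hn).neg ((rootD hn).simple (Fin.last _).castSucc)) t * y⁻¹ =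
        C.x ((rootD hn).neg ((rootD hn).simple (.last _))) t := by
  refine (exists_flip C (fun _ => rfl)
    (r := ⟨(⟨0, by omega⟩, ⟨k + 4, by omega⟩), .inl k.succ.succ.succ.succ_pos, by simp [Fin.ext_iff]⟩)
    (r' := ⟨(⟨0, by omega⟩, ⟨k + 3, by omega⟩), .inl k.succ.succ.succ_pos, by
      simp [Fin.ext_iff]; omega⟩) ?_ ?_ ?_ ?_ ?_ ?_).imp fun y h => ⟨fun i =>
    (mem_cz.1 (h.1 _ ?_ ?_)).imp (fun h t => mem_centralizer_singleton_iff.2 (h t).symm)
      fun h t => mem_centralizer_singleton_iff.2 (h t).symm, h.2⟩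
  all_goals
    rw [pair_D, Rt.P_D]
    simp only [EucData.rootSys, eucD, dl_def, Fin.val_castSucc, Fin.val_last, Fin.val_succ]
    simp (disch := omega) only [if_pos, if_neg]
    rfl

theorem hasPres_D [Finite F] {k d r : ℕ} {hn : 2 ≤ k + 4} {C : ChevSys (rootD hn) F G}
    (hF : C.Faithful) {T : ChevTab (rootD hn)} (hT : T.StrongComm C.x) (hM : C.HMul) (hA : T.Anti)
    (htop : C.grp = ⊤) [IsCyclic hM.torus.ker] (h : HasPres SL(k + 4, F) d r) : HasPres G (d + 1)
      (r + (((if k = 0 then 2 else 1) + if Nat.card F = 2 then 1 else 0) * 2 + 4)) := by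
  let X := realSL F (k + 3)
  have A1 : ∀ i j : Fin (k + 3), (rootD hn).A i.castSucc j.castSucc = (rootA (k + 3)).A i j :=
    fun i j => by
      simp only [A_D, A_A, Fin.ext_iff, Fin.val_castSucc]
      split_ifs <;> omega
  have A2 : ∀ i : Fin (k + 3), (rootD hn).A i.castSucc (.last _) =
      if i = (Fin.last _).castSucc then -1 else 0 := fun i => by
    simp only [A_D, Fin.ext_iff, Fin.val_castSucc, Fin.val_last, and_true]
    split_ifs <;> omega
  obtain ⟨φ, φ1, φ2⟩ := exists_hom_SL hM hT hA _ A1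
  obtain ⟨φ', φ3, φ4⟩ := exists_hom_SL X.hMul X.strongComm (repA _).anti
    (fun i : Fin (k + 1) => i.succ.castSucc) fun i j => by simp [A_A]
  obtain ⟨ψ, ψ1, ψ2⟩ := (X.sys.st2 ((rootA _).simple (.last _))).exists_hom_finite
  replace ψ1 : ∀ t, ψ (xU t) = slP (.last _) t := ψ1
  replace ψ2 : ∀ t, ψ (xL t) = slM (.last _) t := ψ2
  replace φ3 : ∀ i t, φ' (slP i t) = slP i.succ.castSucc t := φ3
  replace φ4 : ∀ i t, φ' (slM i t) = slM i.succ.castSucc t := φ4
  obtain ⟨y, y1, y2, y3⟩ := exists_flip_D C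
  obtain ⟨l, l1, l2, l3⟩ := exists_seeds X.hMul (o := 0) (a := .last _) (b := (Fin.last _).castSucc)
    (j := 1) (by simp [A_A, Fin.ext_iff]) (by simp [A_A, Fin.ext_iff]) (k = 0)
    (by rintro rfl; simp [A_A, Fin.ext_iff]) fun e => by simp [A_A, Fin.ext_iff, e]
  obtain ⟨J, _, α, β, π, hJ, hα, hβ, hS⟩ := h.exists_coprod (hasPres_free (d := 1)) φ
    (FreeGroup.lift fun _ => y)
  let Y := β (.of 0)
  have hY : π Y = y := by simp [Y, hβ]
  let γ := (MulAut.conj Y).toMonoidHom.comp α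
  let p : Fin (k + 4) → F → J := Fin.lastCases (γ ∘ slP (.last _)) fun i => α ∘ slP i
  let m : Fin (k + 4) → F → J := Fin.lastCases (γ ∘ slM (.last _)) fun i => α ∘ slM i
  have hp : ∀ i t, π (p i t) = C.x ((rootD hn).simple i) t := fun i t => by
    induction i using Fin.lastCases <;> simp [p, γ, hα, hY, φ1, y2]
  have hm : ∀ i t, π (m i t) = C.x ((rootD hn).neg ((rootD hn).simple i)) t := fun i t => by
    induction i using Fin.lastCases <;> simp [m, γ, hα, hY, φ2, y3]
  obtain ⟨a, b, hab⟩ := exists_pair_SL' (F := F) (k + 1)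
  obtain ⟨a', b', hab'⟩ := exists_pair_SL2 (F := F)
  let M := closure {g | ∃ i t, g = p i t ∨ g = m i t}
  have hM' : M.map π = ⊤ := eq_top_iff.2 (htop.ge.trans (C.grp_le_of_simple
    (fun i t => ⟨_, subset_closure ⟨i, t, .inl rfl⟩, hp i t⟩)
    fun i t => ⟨_, subset_closure ⟨i, t, .inr rfl⟩, hm i t⟩))
  refine (hJ.of_imp' (π := π) ((((Imp.list l fun g hg => Imp.centralize (γ.comp ψ) [a', b']
    (k := α g) fun w _ => ?_).and (Imp.centralize (α.comp φ') [a, b] (k := Y) fun w _ => ?_)).and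
    (Imp.ct hF hT hM hA (laced_D hn) htop hp hm)).and (Imp.mem (M := M) (g := Y) (hM'.ge (mem_top _))))
    (fun g => (hM'.ge (mem_top g)).imp fun _ h => h.2) ?_).mono (by simp; omega)
  · have c : ∀ i, i ≠ (Fin.last _).castSucc → Nd X.sys ((cz _ _).comap φ) i := fun i e =>
      have := Nd.commute (C := C) ((A2 i).trans (if_neg e))
      ⟨fun t => mem_comap.2 (Set.mem_of_eq_of_mem (φ1 i t) (this.1 t)),
        fun t => mem_comap.2 (Set.mem_of_eq_of_mem (φ2 i t) (this.2 t))⟩
    have := mem_cz.1 (l2 _ (c _ (by simp [Fin.ext_iff])) (c _ (by simp [Fin.ext_iff])) g hg)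
    exact mem_centralizer_singleton_iff.1 ((SL2_eq_top' (M := (centralizer {π (α g)}).comap
      (π.comp (γ.comp ψ))) (fun t => mem_centralizer_singleton_iff.2 (by
        simpa [← hp, p, ψ1, hα] using (this.1 t).symm.eq)) fun t => mem_centralizer_singleton_iff.2 (by
        simpa [← hm, m, ψ2, hα] using (this.2 t).symm.eq)).ge (mem_top w))
  · rw [hY, MonoidHom.comp_apply, hα]
    exact mem_centralizer_singleton_iff.1 ((sl_eq_top (M := (centralizer {y}).comap (φ.comp φ'))
      (fun i t => by simpa [φ3, φ1] using (y1 i).1 t) fun i t => by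
        simpa [φ4, φ2] using (y1 i).2 t).ge (mem_top w))
  rintro K _ f π' hπ ⟨⟨⟨h1, h2⟩, h3⟩, g, hg, h4⟩
  simp only [List.mem_cons, List.not_mem_nil, or_false] at h1 h2
  let δ := f.comp α
  let κ := f.comp γ
  have ct := ctRels_map (ctRels_SL (F := F) (k + 3)) δ
  have ct' := ctRels_map (ctRels_SL (F := F) (k + 3)) κ
  have hc : ∀ w, κ (φ' w) = δ (φ' w) := fun w => by
    simpa [κ, γ, δ, mul_inv_eq_iff_eq_mul] using (h2 w (hab.ge (mem_top w))).symm.eq
  have c1 : ∀ i : Fin (k + 1), κ ∘ slP i.succ.castSucc = δ ∘ slP i.succ.castSucc := fun i =>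
    funext fun t => by simpa only [φ3] using! hc (slP i t)
  have c2 : ∀ i : Fin (k + 1), κ ∘ slM i.succ.castSucc = δ ∘ slM i.succ.castSucc := fun i =>
    funext fun t => by simpa only [φ4] using! hc (slM i t)
  let N := (cz (κ ∘ slP (.last _)) (κ ∘ slM (.last _))).comap δ
  have N1 : ∀ i : Fin (k + 1), i ≠ .last _ → Nd X.sys N i.succ.castSucc := fun i e =>
    (comm_iff (p := δ ∘ slP _) (m := δ ∘ slM _)).1 (c1 i ▸ c2 i ▸ ct'.comm _ (.last _) (by
      simp only [A_A, Fin.ext_iff, Fin.val_castSucc, Fin.val_last, Fin.val_succ, ne_eq] at e ⊢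
      split_ifs <;> omega))
  have N2 := l3 N (fun c g hg => ?_) (fun e => N1 0 (by simpa [Fin.ext_iff, eq_comm] using e))
    fun g hg => mem_cz.2 ⟨fun t => by simpa [ψ1] using! (h1 g hg _ (hab'.ge (mem_top (xU t)))).symm,
      fun t => by simpa [ψ2] using! (h1 g hg _ (hab'.ge (mem_top (xL t)))).symm⟩
  swap
  · let b := (rootA (k + 3)).simple (Fin.last _).castSucc
    have e : κ (X.sys.h b c) = δ (X.sys.h b c) :=
      X.sys.h_mem (K := κ.eqLocus δ) (congrFun (c1 (.last _))) (congrFun (c2 (.last _))) c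
    have : ∀ s, (∀ t, Commute (δ g) (κ (X.sys.x s t))) → ∀ t,
        Commute (δ (X.sys.h b c * g * (X.sys.h b c)⁻¹)) (κ (X.sys.x s t)) := fun s hs t => by
      rw [← Units.mul_inv_cancel_left (c ^ (rootA _).pair b s) t, ← X.sys.h_conj]
      simp only [map_mul, map_inv, e]
      exact (hs _).conj _
    exact mem_cz.2 ⟨this _ (mem_cz.1 hg).1, this _ (mem_cz.1 hg).2⟩
  have N3 : ∀ i, i ≠ (Fin.last _).castSucc → Nd X.sys N i := fun i e => by
    induction i using Fin.lastCases with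
    | last => exact N2.2
    | cast i =>
      induction i using Fin.cases with
      | zero => exact N2.1
      | succ i => exact N1 i (by rintro rfl; exact e rfl)
  have B : ∀ i : Fin (k + 3), ((rootD hn).A i.castSucc (.last _) = 0 → ∀ a ∈ [δ ∘ slP i, δ ∘ slM i],
      ∀ b ∈ [κ ∘ slP (.last _), κ ∘ slM (.last _)], ∀ t u, Commute (a t) (b u)) ∧
      ((rootD hn).A i.castSucc (.last _) = -1 →
        A2Pair (δ ∘ slP i) (δ ∘ slM i) (κ ∘ slP (.last _)) (κ ∘ slM (.last _))) := fun i => by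
    rw [A2]
    split_ifs with e
    · refine ⟨by simp, fun _ => ?_⟩
      subst e
      exact c1 (.last _) ▸ c2 (.last _) ▸ ct'.bond _ _ (by simp [A_A, Fin.ext_iff])
    · exact ⟨fun _ => comm_iff.2 (N3 i e), by simp⟩
  refine (h3 ⟨fun i => ?_, fun i j e => ?_, fun i j e => ?_⟩).imp fun Φ ⟨e1, e2⟩ =>
    MonoidHom.eq_of_eqOn_dense hS ?_
  rotate_right
  · rintro _ (⟨x, rfl⟩ | ⟨x, rfl⟩)
    · exact (sl_eq_top (M := ((Φ.comp π).eqLocus f).comap α) (fun i t => by
        simpa [p] using! e1 i.castSucc t) fun i t => by simpa [m] using! e2 i.castSucc t).ge (mem_top x)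
    · refine DFunLike.congr_fun (FreeGroup.ext_hom ((Φ.comp π).comp β) (f.comp β) fun i => ?_) x
      have : Φ (π g) = f g := (closure_le ((Φ.comp π).eqLocus f)).2 (by
        rintro _ ⟨i, t, rfl | rfl⟩
        exacts [e1 i t, e2 i t]) hg
      rw [Subsingleton.elim i 0]
      change Φ (π Y) = f Y
      rw [← hπ, ← h4, hπ, this]
  · induction i using Fin.lastCases <;> simp only [p, m, Fin.lastCases_last, Fin.lastCases_castSucc]
    exacts [ct'.rk1 (.last _), ct.rk1 _]
  all_goals induction i using Fin.lastCases <;> induction j using Fin.lastCases <;>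
    simp only [p, m, Fin.lastCases_last, Fin.lastCases_castSucc]
  · simp [A_diag] at e
  · exact comm_symm ((B _).1 ((A_D_comm _ _ _).trans e))
  · exact (B _).1 e
  · exact ct.comm _ _ ((A1 _ _).symm.trans e)
  · simp [A_diag] at e
  · exact ((B _).2 ((A_D_comm _ _ _).trans e)).symm
  · exact (B _).2 e
  · exact ct.bond _ _ ((A1 _ _).symm.trans e)

theorem isCyclic_ker_D [Finite F] {n : ℕ} {hn : 2 ≤ n} (h3 : 3 ≤ n) {C : ChevSys (rootD hn) F G}
    (hF : C.Faithful) (hM : C.HMul) (h : ∀ c ∈ hM.torus.ker, c ⟨0, by omega⟩ = 1) :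
    IsCyclic hM.torus.ker := by
  refine isCyclic_of_injective ((Pi.evalMonoidHom _ (⟨n - 1, by omega⟩ : Fin n)).comp
    hM.torus.ker.subtype) ((injective_iff_map_eq_one _).2 fun ⟨c, hc⟩ e => Subtype.ext ?_)
  have h0 := h c hc
  have h1 := mem_kerChr.1 (hM.ker_torus_le hF hc)
  have : ∀ m, ∀ i : Fin n, i.val ≤ m → c i = 1 := fun m => by
    induction m with
    | zero => exact fun i hi => (Fin.ext (by simpa using hi) : i = ⟨0, _⟩) ▸ h0
    | succ m ih =>
      intro i hi
      by_cases e1 : i.val + 1 = n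
      · exact (Fin.ext (by simp; omega) : i = ⟨n - 1, _⟩) ▸ e
      by_cases e2 : i.val ≤ m
      · exact ih i e2
      have := h1 ⟨m, by omega⟩
      rw [Finset.prod_eq_single i (fun j _ hj => ?_) (by simp), A_D, if_neg (by
        simp [Fin.ext_iff]; omega), if_pos (by simp; omega)] at this
      · simpa using this
      by_cases e3 : j.val ≤ m
      · simp [ih j e3]
      by_cases e4 : j.val + 1 = n
      · rw [(Fin.ext (by simp; omega) : j = ⟨n - 1, by omega⟩), show c _ = 1 from e, _root_.one_zpow]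
      · rw [A_D, if_neg (by simp [Fin.ext_iff]; omega), if_neg (by
          simp [Fin.ext_iff] at hj ⊢; omega), zpow_zero]
  exact funext fun i => this _ i le_rfl

theorem torus_zero_D {n : ℕ} {hn : 2 ≤ n} (h3 : 3 ≤ n)
    {C : ChevSys (rootD hn) F (commutator (O (qPlus n F)))} (hM : C.HMul)
    (h : ∀ r t, (C.x r t : O (qPlus n F)) =
      eich _ (Pi.single (idx n r.1.1) 1) (t • Pi.single (idx n r.1.2) 1)) :
    ∀ c ∈ hM.torus.ker, c ⟨0, by omega⟩ = 1 := fun c hc => by
  let E : Fin (2 * n) → Fin n ⊕ Fin n → F := fun a => Pi.single (idx n a) 1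
  have h1 : ∀ r t a, (C.x r t).1.1 (E a) = E a + (if r.1.2.rev = a then t else 0) • E r.1.1 -
      (if r.1.1.rev = a then t else 0) • E r.1.2 := fun r t a => by
    have := fun a => (hypPlus F n).sing (ne_rev_of_even a)
    simp only [hypPlus, Module.Basis.reindex_apply, Equiv.symm_symm, Pi.basisFun_apply] at this
    rw [h, eich_apply (this _) (by simp [polar_qPlus_idx, r.2.2.symm])]
    simp [E, polar_qPlus_idx, Pi.single_apply, QuadraticMap.map_smul, this]
  let o : Fin (2 * n) := ⟨0, by omega⟩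
  let St := (MulAction.stabilizer (_ ≃ₗ[F] _) (E o)).comap ((O _).subtype.comp
    (commutator (O (qPlus n F))).subtype)
  have h2 : ∀ r : Rt (2 * n) false, r.1.2.val + 1 ≠ 2 * n → ∀ t, C.x r t ∈ St := fun r e t => by
    have := r.lt
    refine (h1 r t o).trans ?_
    rw [if_neg, if_neg, zero_smul, zero_smul, add_zero, sub_zero] <;>
      simp only [Fin.ext_iff, Fin.val_rev, o] <;> omega
  have h4 := (MonoidHom.mem_ker.1 hc).symm ▸ one_mem St
  rw [← Finset.univ_prod_mulSingle c, ← Finset.mul_prod_erase _ _ (Finset.mem_univ ⟨0, by omega⟩),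
    map_mul, St.mul_mem_cancel_right (mem_comap.1 (prod_mem fun i hi => mem_comap.2 (by
      rw [hM.torus_mulSingle]
      refine C.h_mem (h2 _ ?_) (h2 _ ?_) _ <;>
      simp [EucData.rootSys, eucD, Rt.neg, Fin.ext_iff] at hi ⊢ <;> omega))), hM.torus_mulSingle] at h4
  have h5 : ∀ t, (C.n ((rootD hn).simple ⟨0, by omega⟩) t).1.1 (E o) =
      -((t⁻¹ : Fˣ) : F) • E ⟨1, by omega⟩ := fun t => by
    simp only [PreSys.n, coe_mul, LinearEquiv.mul_apply, h1, map_add, map_sub, map_smul,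
      EucData.rootSys, eucD, Rt.neg, Fin.ext_iff, Fin.val_rev, o]
    simp (disch := omega) only [if_pos, if_neg]
    rw [show Fin.rev ⟨2 * n - 2 - 0, by omega⟩ = (⟨1, by omega⟩ : Fin (2 * n)) from
      Fin.ext (by simp; omega)]
    simp [smul_smul]
  generalize c _ = t at h4
  have h6 := congrArg (C.n ((rootD hn).simple ⟨0, by omega⟩) (-t)).1.1 h4
  rw [MonoidHom.comp_apply, coe_subtype, coe_subtype, LinearEquiv.smul_def, ← LinearEquiv.mul_apply,
    ← coe_mul, ← coe_mul, PreSys.h, C.n_neg, inv_mul_cancel_left, ← C.n_neg, h5, h5] at h6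
  simpa [E, eq_comm] using congrFun h6 (idx n ⟨1, by omega⟩)

theorem hasPres_omega [Finite F] {n : ℕ} (hn : 4 ≤ n) :
    HasPres (Omega F (quadFormPlus n F)) 8 31 ∧ (n ≤ 5 → HasPres (Omega F (quadFormPlus n F)) 8 29) := by
  obtain ⟨k, rfl⟩ : ∃ k, n = k + 4 := ⟨n - 4, by omega⟩
  obtain ⟨C, hF, htop, hM, hT, h⟩ := exists_omega_D F (n := k + 4) (by omega) (by omega)
  haveI := isCyclic_ker_D (by omega) hF hM (torus_zero_D (by omega) hM h)
  have H := fun d r h => (hasPres_D (d := d) (r := r) hF hT hM (repD _ _).anti htop h).of_equiv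
    (commutatorCongr (isoEquiv (qPlus (k + 4) F))).symm
  obtain ⟨p, _⟩ := CharP.exists F
  haveI := Fact.mk (CharP.char_is_prime F p)
  obtain ⟨ζ, hζ⟩ := IsCyclic.exists_monoid_generator (α := Fˣ)
  obtain ⟨s, h5, h3, hs⟩ := rootWords_gen_sq hζ p
  have h2 : Nat.card F = 2 → s.length ≤ 3 := fun e => h3 (by
    cases nonempty_fintype F
    obtain ⟨m, -, hm⟩ := FiniteField.card F p
    rw [Nat.card_eq_fintype_card, hm] at e
    exact (Nat.prime_two.pow_eq_iff.1 e).1)
  have : k + 4 ≤ 5 → HasPres (Omega F (quadFormPlus (k + 4) F)) 8 29 := fun e => by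
    obtain rfl | rfl : k = 0 ∨ k = 1 := by omega
    · exact (H _ _ (hasPres_SL4 hζ hs)).le (by omega) (by split_ifs with a b <;> omega)
    · exact (H _ _ (hasPres_SL5 hζ hs)).le (by omega) (by split_ifs with a b <;> omega)
  refine ⟨?_, this⟩
  by_cases e : k + 4 ≤ 5
  · exact (this e).mono (by omega)
  · exact (H _ _ (hasPres_SL_six hζ hs (by omega))).le (by omega) (by split_ifs <;> omega)

theorem HasPres.pomega [Finite F] {n d r : ℕ} (hn : 3 ≤ n)
    (h : HasPres (Omega F (quadFormPlus n F)) d r) : HasPres (POmega F (quadFormPlus n F)) d (r + 1) := by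
  have := card_center_commutator (nd_qPlus (F := F) n) (not_exc_of_card (.inr (by simp; omega)))
    (by simp; omega)
  haveI : IsCyclic (center (commutator (O (qPlus n F)))) := by
    split_ifs at this
    exacts [isCyclic_of_prime_card this, @isCyclic_of_subsingleton _ _ (Nat.card_eq_one_iff_unique.1 this).1]
  exact ((h.of_equiv (commutatorCongr (isoEquiv (qPlus n F)))).quot_cyclic _).of_equiv
    (pomegaEquiv _).symm

end Cfsg.Lib.Pres
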