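import Cfsg.Agent.Lib.Pres.SUSmall

set_option autoImplicit false
set_option maxRecDepth 1000000

/-! # `SU₃(2)` is generated by two elements of order four -/

namespace Cfsg.Lib.Pres

open Cfsg.Lib.Calc Cfsg.Lib.Mult Cfsg.Lib.Asch Subgroup Matrix U42

theorem exists_pair_SU32_F4 : ∃ x y : SU 3 F4 2, x ^ 4 = 1 ∧ y ^ 4 = 1 ∧ closure {x, y} = ⊤ := by
  obtain ⟨σ, hσ⟩ := Unitary.exists_isBar (F := F4) (q := 2) TF.card
  have mk : ∀ (A : Matrix (Fin 3) (Fin 3) F4), A ^ 4 = 1 ∧ (A.map (· ^ 2))ᵀ * A = 1 →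
      ∃ g : SU 3 F4 2, g.1.1 = A ∧ g ^ 4 = 1 := fun A h =>
    ⟨⟨⟨_, det_eq_one_of_pow 4 h.1 (by decide +kernel)⟩, hσ.mem_GU_iff.2 (by
      rw [show ⇑σ = (· ^ 2) from funext hσ.eq]; exact h.2)⟩, rfl, Subtype.ext (Subtype.ext h.1)⟩
  obtain ⟨x, hx, x4⟩ := mk (tmat Fin.val 3 9415299345) (by decide +kernel)
  obtain ⟨y, hy, y4⟩ := mk (tmat Fin.val 3 13207015953) (by decide +kernel)
  refine ⟨x, y, x4, y4, ?_⟩
  haveI : Finite (SU 3 F4 2) := Nat.finite_of_card_ne_zero (by rw [card3]; norm_num)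
  have mx : x ∈ closure {x, y} := subset_closure (by simp)
  have my : y ∈ closure {x, y} := subset_closure (by simp)
  generalize closure {x, y} = M at mx my
  obtain ⟨X, _, _, bs, el, L⟩ := bas3.lx ((SpecialLinearGroup.coeMonoidHom.comp
    (SU 3 F4 2).subtype).comp M.subtype)
    ((Subtype.val_injective.comp Subtype.val_injective).comp Subtype.val_injective)
    (L := [(nat_lit 0x41001040040041001001041040041040001040040040001001001),
      (nat_lit 0x1001041041041040040001040001041001001040040041001001)])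
    (List.forall_mem_cons.2 ⟨⟨⟨x, mx⟩, by change Cod _ _ _ _ _ x.1.1 _; rw [hx]; decide +kernel⟩,
      List.forall_mem_cons.2 ⟨⟨⟨y, my⟩, by change Cod _ _ _ _ _ y.1.1 _; rw [hy]; decide +kernel⟩,
      fun _ h => absurd h List.not_mem_nil⟩⟩)
  refine eq_top_of_le_card _ ?_
  rw [card3, ← card_top (G := M)]
  exact L.cut.le_card (N := 2) (vs := (nat_lit 281474993487872)) (l := low3) (fun _ => mem_top _)
    (by decide +kernel) (by decide +kernel)

theorem eq_top_of_pow_four {F : Type*} [Field F] [Fintype F] (hF : Fintype.card F = 2 ^ 2)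
    {M : Subgroup (SU 3 F 2)} (h : ∀ x, x ^ 4 = 1 → x ∈ M) : M = ⊤ := by
  obtain ⟨a, b, h1, h2, h3⟩ := exists_pair_SU32_F4
  obtain ⟨e⟩ := Unitary.nonempty_su_congr (F := F4) TF.card hF 3
  have : closure {a, b} ≤ M.comap e.toMonoidHom := (closure_le _).2 (Set.pair_subset
    (h _ (by rw [← map_pow, h1, map_one])) (h _ (by rw [← map_pow, h2, map_one])))
  exact eq_top_iff.2 fun x _ => by simpa using this (h3.ge (mem_top (e.symm x)))

end Cfsg.Lib.Pres
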