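import Cfsg.Agent.Lib.Pres.PhanId
import Cfsg.Agent.Lib.Pres.U42c

/-! # Weak Phan systems over small fields: gluing -/

set_option autoImplicit false

namespace Cfsg.Lib.Pres

open Module Cfsg.Lib.Unitary Subgroup Matrix

variable {F : Type*} [Field F] {σ : F →+* F} {q n : ℕ}

theorem aut_eq_one_two (hσ : IsBar 2 σ) {ρ : MulAut (SU 3 F 2)}
    (h0 : ∀ x ∈ sB hσ (Iv 3 0 2), ρ x = x) (h1 : ∀ x ∈ sB hσ (Iv 3 1 3), ρ x = x) (g : SU 3 F 2) :
    ρ g = g := by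
  haveI := hσ.finite
  haveI := Fintype.ofFinite F
  have h := hσ.isHerm (ι := Fin 3)
  have he := isON_single (σ := σ) (Fin 3)
  have h2 : (1 : F) + σ 1 = 0 := by simpa [one_add_one_eq_two] using hσ.cast_q
  let E := hσ.suEquiv 3
  let M := (ρ.toMonoidHom.eqLocus (.id _)).comap E.symm.toMonoidHom
  have m0 : Blk _ (fun i => Pi.single i 1) (Iv 3 0 2) ≤ M := fun x hx =>
    h0 _ (by simpa [mem_sB', E] using hx)
  have m1 : Blk _ (fun i => Pi.single i 1) (Iv 3 1 3) ≤ M := fun x hx =>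
    h1 _ (by simpa [mem_sB', E] using hx)
  obtain ⟨b, b1, b2⟩ := exists_Blk_move h hσ he (by simp) (S := Iv 3 1 3) (by simp [ncard_Iv])
    (i := 1) (j := 2) (by simp) (by simp)
  have m2 : Blk _ (fun i => Pi.single i 1) {0, 2} ≤ M :=
    Blk_le_of_conj h he (by simp) (by
      rintro _ (rfl | rfl)
      exacts [⟨0, by simp, b1 0 (by simp)⟩, ⟨1, by simp, b2⟩]) (m1 b1) m0
  have hT : ∀ u (hu : stdForm σ (Fin 3) u u = 0),
      (⟨_, h.transv_mem_SUG u 1 hu h2⟩ : SUG _) ∈ M := fun u hu => by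
    have k : ∀ i, u i = 0 → (⟨_, h.transv_mem_SUG u 1 hu h2⟩ : SUG _) ∈
        Blk _ (fun i => Pi.single i (1 : F)) {i}ᶜ := fun i hi j hj => by
      obtain rfl : j = i := by simpa using hj
      simp [sug_smul, h.eq_zero_comm.1 (show stdForm σ _ (Pi.single j 1) u = 0 by
        simpa [stdForm_single_left])]
    by_cases a0 : u 0 = 0
    · exact m1 (Blk_mono (fun i => by fin_cases i <;> simp) (k 0 a0))
    by_cases a1 : u 1 = 0
    · exact m2 (Blk_mono (fun i => by fin_cases i <;> simp) (k 1 a1))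
    by_cases a2 : u 2 = 0
    · exact m0 (Blk_mono (fun i => by fin_cases i <;> simp) (k 2 a2))
    have : ∀ a : F, a ≠ 0 → σ a * a = 1 := fun a ha => by
      rw [mul_comm, hσ.norm_eq, ← FiniteField.pow_card_sub_one_eq_one a ha, card_of_isBar hσ]
      rfl
    simp only [stdForm_apply, Fin.sum_univ_three, this _ a0, this _ a1, this _ a2] at hu
    exact absurd (by linear_combination hu - h2 + map_one σ) (one_ne_zero (α := F))
  refine (eq_top_of_pow_four (card_of_isBar hσ) (M := ρ.toMonoidHom.eqLocus (.id _))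
    fun g hg => ?_).ge (mem_top g)
  obtain ⟨v, v0, v1⟩ := h.exists_isotropic (by simp)
  obtain ⟨a, ha⟩ := h.exists_smul_of_isotropic v0 v1 (g := (E (g⁻¹ * ρ g)).1.toLinearMap)
    fun u hu => h.exists_smul_of_commute_transv hu h2 one_ne_zero (by
      have k1 : ρ _ = _ := hT u hu
      have k2 : ρ _ = _ := hT ((E g).1 u) (((E g).2.1 u u).trans hu)
      have k3 : (⟨_, h.transv_mem_SUG _ 1 (((E g).2.1 u u).trans hu) h2⟩ : SUG _) =
          E g * ⟨_, h.transv_mem_SUG u 1 hu h2⟩ * (E g)⁻¹ :=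
        Subtype.ext (conj_transv (E g).2.1 u 1 hu h2).symm
      simp only [k3, MulEquiv.coe_toMonoidHom, map_mul, map_inv, MulEquiv.symm_apply_apply,
        MonoidHom.id_apply] at k1 k2
      rw [k1] at k2
      obtain ⟨T, hT⟩ := E.surjective ⟨_, h.transv_mem_SUG u 1 hu h2⟩
      rw [← hT, E.symm_apply_apply] at k2
      refine congrArg Subtype.val (show (⟨_, h.transv_mem_SUG u 1 hu h2⟩ : SUG _) * _ = _ * ⟨_,
        h.transv_mem_SUG u 1 hu h2⟩ from ?_)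
      rw [← hT, ← map_mul, ← map_mul, mul_assoc, eq_mul_of_mul_inv_eq k2]
      group)
  have hc := (mem_center_equiv E).1 ((h.mem_center_SUG (by simp)).2 ⟨a, ha⟩)
  have h3 : (g⁻¹ * ρ g) ^ 3 = 1 := by
    have := pow_card_eq_one' (x := (⟨_, hc⟩ : center _))
    rw [card_center_SU (card_of_isBar hσ) (by omega)] at this
    exact congrArg Subtype.val this
  have h4 : (g⁻¹ * ρ g) ^ 4 = 1 := by
    rw [(show Commute g⁻¹ (ρ g) from ?_).mul_pow, inv_pow, ← map_pow, hg, map_one, inv_one, one_mul]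
    have := mem_center_iff.1 hc g
    rw [mul_inv_cancel_left] at this
    exact eq_mul_inv_of_mul_eq this.symm
  rw [pow_succ, h3, one_mul, inv_mul_eq_one] at h4
  exact h4.symm

variable (hσ : IsBar q σ)

theorem isGam_three (α : MulAut (SU 3 F q))
    (h0 : (sB hσ (Iv 3 0 2)).map α.toMonoidHom = sB hσ (Iv 3 0 2))
    (h1 : (sB hσ (Iv 3 1 3)).map α.toMonoidHom = sB hσ (Iv 3 1 3)) : ∃ δ τ, IsGam σ α δ τ := by
  obtain ⟨γ, δ, τ, h, a, b⟩ := exists_gam_three hσ α h0 h1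
  obtain rfl : α = γ := MulEquiv.ext fun x => by
    by_cases hq : q = 2
    · subst hq
      exact γ.symm_apply_eq.1 (aut_eq_one_two hσ (ρ := γ⁻¹ * α)
        (fun x hx => γ.symm_apply_eq.2 (a x hx)) (fun x hx => γ.symm_apply_eq.2 (b x hx)) x)
    · exact (gen_three hσ hq (M := α.toMonoidHom.eqLocus γ.toMonoidHom) a b).ge (mem_top x)
  exact ⟨δ, τ, h⟩

variable {G : Type*} [Group G]

/-- A homomorphism exhibiting a standard triple. -/
def Std4 (Φ : SU 4 F q →* G) (A B C X Y : Subgroup G) : Prop :=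
  Φ.ker ≤ center _ ∧ (sB hσ (Iv 4 0 2)).map Φ = A ∧ (sB hσ (Iv 4 1 3)).map Φ = B ∧
    (sB hσ (Iv 4 2 4)).map Φ = C ∧ (sB hσ (Iv 4 0 3)).map Φ = X ∧ (sB hσ (Iv 4 1 4)).map Φ = Y

theorem Std4.adjust {Φ Φ' : SU 4 F q →* G} {A B C D X Y Z : Subgroup G} (h : Std4 hσ Φ A B C X Y)
    (h' : Std4 hσ Φ' B C D Y Z) :
    ∃ Ψ, Std4 hσ Ψ B C D Y Z ∧ Ψ.comp (em hσ 3 4 0) = Φ.comp (em hσ 3 4 1) := by
  obtain ⟨a0, -, a2, a3, -, a5⟩ := h
  obtain ⟨b0, b1, b2, b3, b4, b5⟩ := h'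
  have i0 := injective_comp_em hσ (a := 0) (by omega) b0 (by omega)
  obtain ⟨Ψ, p, e⟩ := exists_adjust hσ (injective_comp_em hσ (by omega) a0 le_rfl) i0
    (by rw [MonoidHom.range_comp, MonoidHom.range_comp, range_em hσ le_rfl, range_em hσ (by omega),
      a5, b4]) fun α hα => by
      have : ∀ c d, d ≤ 3 → (sB hσ (Iv 4 (1 + c) (1 + d))).map Φ = (sB hσ (Iv 4 (0 + c) (0 + d))).map Φ' →
          (sB hσ (Iv 3 c d)).map α.toMonoidHom = sB hσ (Iv 3 c d) := fun c d hd k => by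
        apply Subgroup.map_injective i0
        rw [Subgroup.map_map, show (Φ'.comp (em hσ 3 4 0)).comp α.toMonoidHom =
          Φ.comp (em hσ 3 4 1) from MonoidHom.ext hα, ← Subgroup.map_map, ← Subgroup.map_map,
          map_em hσ le_rfl hd, map_em hσ (by omega) hd, k]
      exact isGam_three hσ α (this 0 2 (by omega) (a2.trans b1.symm))
        (this 1 3 le_rfl (a3.trans b2.symm))
  exact ⟨Ψ, ⟨p.1 b0, (p.2 _).trans b1, (p.2 _).trans b2, (p.2 _).trans b3, (p.2 _).trans b4,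
    (p.2 _).trans b5⟩, e⟩

theorem phan_four (hn : 3 ≤ n) {U : Fin n → Subgroup G} {V : Fin n → Fin n → Subgroup G}
    (h2 : ∀ i j k : Fin n, i.val + 1 = j → j.val + 1 = k →
      ∃ Φ, Std4 hσ Φ (U i) (U j) (U k) (V i j) (V j k))
    (h5 : ∀ i j k : Fin n, j.val + 1 = k → i.val + 2 ≤ j → ∀ x ∈ U i, ∀ y ∈ V j k, x * y = y * x)
    (h5' : q = 2 → ∀ i j k : Fin n, j.val + 1 = k → k.val + 2 ≤ i →
      ∀ x ∈ U i, ∀ y ∈ V j k, x * y = y * x)
    (h6 : q = 2 → ∀ i j k l : Fin n, i.val + 1 = j → k.val + 1 = l → j.val + 2 ≤ k →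
      ∀ x ∈ V i j, ∀ y ∈ V k l, x * y = y * x) :
    ∃ f : SU (n + 1) F q →* G, (∀ i, U i ≤ f.range) ∧
      ∀ i j : Fin n, i.val + 1 = j → V i j ≤ f.range := by
  obtain ⟨θ, hθ⟩ := exists_theta hσ (b := 3) (N := n - 2)
    (P := fun a π => ∀ i j k : Fin n, i.val = a → j.val = a + 1 → k.val = a + 2 →
      Std4 hσ π (U i) (U j) (U k) (V i j) (V j k))
    ((h2 ⟨0, by omega⟩ ⟨1, by omega⟩ ⟨2, by omega⟩ rfl rfl).imp fun π h i j k hi hj hk => by
      rwa [show i = ⟨0, by omega⟩ from Fin.ext hi, show j = ⟨1, by omega⟩ from Fin.ext hj,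
        show k = ⟨2, by omega⟩ from Fin.ext hk])
    fun a π ha h => by
      obtain ⟨π', h'⟩ := h2 ⟨a + 1, by omega⟩ ⟨a + 2, by omega⟩ ⟨a + 3, by omega⟩ rfl rfl
      obtain ⟨Ψ, p, e⟩ := (h ⟨a, by omega⟩ _ _ rfl rfl rfl).adjust hσ h'
      refine ⟨Ψ, fun ⟨i, _⟩ ⟨j, _⟩ ⟨k, _⟩ hi hj hk => ?_, e⟩
      obtain rfl : i = a + 1 := hi
      obtain rfl : j = a + 2 := hj
      obtain rfl : k = a + 3 := hk
      exact p
  have hr : ∀ a (ha : a + 1 < n), (θ a).range = V ⟨a, by omega⟩ ⟨a + 1, ha⟩ ∧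
      (sB hσ (Iv 3 0 2)).map (θ a) = U ⟨a, by omega⟩ ∧
      (sB hσ (Iv 3 1 3)).map (θ a) = U ⟨a + 1, ha⟩ := fun a ha => by
    cases a with
    | zero =>
      obtain ⟨Φ, p, e, -⟩ := hθ 0 (by omega)
      rw [← e, MonoidHom.range_comp, range_em hσ (by omega), ← Subgroup.map_map, ← Subgroup.map_map,
        map_em hσ (by omega) (by omega), map_em hσ (by omega) le_rfl]
      obtain ⟨-, p1, p2, -, p4, -⟩ := p ⟨0, by omega⟩ ⟨1, ha⟩ ⟨2, by omega⟩ rfl rfl rfl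
      exact ⟨p4, p1, p2⟩
    | succ a =>
      obtain ⟨Φ, p, -, e⟩ := hθ a (by omega)
      rw [← e, MonoidHom.range_comp, range_em hσ (by omega), ← Subgroup.map_map, ← Subgroup.map_map,
        map_em hσ (by omega) (by omega), map_em hσ (by omega) le_rfl]
      obtain ⟨-, -, p2, p3, -, p5⟩ := p ⟨a, by omega⟩ ⟨a + 1, by omega⟩ ⟨a + 2, ha⟩ rfl rfl rfl
      exact ⟨p5, p2, p3⟩
  obtain ⟨Ψ, hΨ⟩ := phan_glue hσ (n := n + 1) (b := 3) (by omega) (fun _ => rfl) (.inl le_rfl)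
    (by omega) (θ := θ) (fun a ha => (hθ a (by omega)).imp fun _ h => h.2)
    (fun i j hij hj u hu x => h5 ⟨i, by omega⟩ ⟨j, by omega⟩ ⟨j + 1, by omega⟩ rfl hij _
      ((hr i (by omega)).2.1.le ⟨u, hu, rfl⟩) _ ((hr j _).1.le ⟨x, rfl⟩))
    fun hq i j c hij hc hj u x hx => by
      have hu := (hr i (by omega)).1.le ⟨u, rfl⟩
      by_cases e : i + 3 ≤ j
      · exact h6 hq _ _ _ _ rfl rfl e _ hu _ ((hr j (by omega)).1.le ⟨x, rfl⟩)
      · exact (h5' hq ⟨j + 1, by omega⟩ _ _ rfl (by simp; omega) _ ((hr j _).2.2.le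
          ⟨x, sB_mono hσ (Iv_mono (by omega) le_rfl) hx, rfl⟩) _ hu).symm
  have key : ∀ a, a + 1 < n → (θ a).range ≤ Ψ.range := fun a ha => by
    rw [← hΨ a (by omega), MonoidHom.range_comp]
    exact map_le_range _ _
  refine ⟨Ψ, fun ⟨i, hi⟩ => ?_, fun ⟨i, hi⟩ ⟨j, hj⟩ e => ?_⟩
  · cases i with
    | zero => exact (hr 0 (by omega)).2.1.ge.trans ((map_le_range _ _).trans (key 0 (by omega)))
    | succ i => exact (hr i hi).2.2.ge.trans ((map_le_range _ _).trans (key i hi))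
  · obtain rfl : i + 1 = j := e
    exact (hr i hj).1.ge.trans (key i hj)

end Cfsg.Lib.Pres
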